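import Mathlib
import Groth.Agent.RegLoc.MCM
import Groth.Agent.Depth.CM

/-!
# A Cohen–Macaulay local ring finite over a regular local ring is free
-/

set_option autoImplicit false

universe u v

noncomputable section

open RingTheory.Sequence IsLocalRing

namespace Groth.Agent.InvQLib.FiniteFree

/-- Dimension is unchanged along injective integral extensions. -/
theorem ringKrullDim_eq_of_integral (R : Type u) [CommRing R] (S : Type v) [CommRing S] [Algebra R S]
    [Algebra.IsIntegral R S] (hinj : Function.Injective (algebraMap R S)) : ringKrullDim S = ringKrullDim R := by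
  refine le_antisymm ?_ ?_
  · refine Order.krullDim_le_of_strictMono (PrimeSpectrum.comap (algebraMap R S)) fun p q hpq => ?_
    exact Ideal.IsIntegral.comap_lt_comap hpq
  · refine iSup_le fun l => ?_
    obtain ⟨P, -, hP, hPl⟩ := Ideal.exists_ideal_over_prime_of_isIntegral l.head.asIdeal (⊥ : Ideal S)
      (by rw [← RingHom.ker_eq_comap_bot, (RingHom.injective_iff_ker_eq_bot _).1 hinj]; exact bot_le)
    have : P.LiesOver l.head.asIdeal := ⟨hPl.symm⟩
    obtain ⟨L, hL, -⟩ := Ideal.exists_ltSeries_of_hasGoingUp l P
    exact le_iSup_of_le L (le_of_eq (by rw [hL]))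

/-- A Cohen–Macaulay local ring finite over a regular local ring is free. -/
theorem free_of_finite (R : Type u) [CommRing R] [IsRegularLocalRing R] (A : Type u) [CommRing A] [IsLocalRing A]
    [IsNoetherianRing A] [LocCoh.IsCohenMacaulayLocalRing A] [Algebra R A] [Module.Finite R A]
    (hinj : Function.Injective (algebraMap R A)) : Module.Free R A := by
  have : Algebra.IsIntegral R A := Algebra.IsIntegral.of_finite R A
  have hdimA := ringKrullDim_eq_of_integral R A hinj
  obtain ⟨d, hd, -⟩ := RegLoc.exists_natCast_eq_ringKrullDim R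
  set m := maximalIdeal R
  set I : Ideal A := m.map (algebraMap R A) with hI
  obtain ⟨Q, hQ, hQm⟩ := Ideal.exists_ideal_over_maximal_of_isIntegral (S := A) m
    (by rw [(RingHom.injective_iff_ker_eq_bot _).1 hinj]; exact bot_le)
  have hIm : I ≤ maximalIdeal A :=
    (Ideal.map_le_iff_le_comap.2 hQm.ge).trans (eq_maximalIdeal hQ).le
  have hCM : LocCoh.IsCohenMacaulayModule A A := Depth.isCohenMacaulayModule_self A
  have : Nontrivial (A ⧸ (I • (⊤ : Submodule A A))) := by
    rw [Submodule.Quotient.nontrivial_iff, smul_eq_mul, Ideal.mul_top]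
    exact fun h => (Ideal.IsMaximal.ne_top inferInstance) (top_unique (h ▸ hIm))
  have hq : Module.supportDim A (A ⧸ (I • (⊤ : Submodule A A))) = 0 := by
    rw [Module.supportDim_eq_ringKrullDim_quotient_annihilator]
    have hle : I ≤ Module.annihilator A (A ⧸ (I • (⊤ : Submodule A A))) := fun a ha => by
      rw [Module.mem_annihilator]
      intro z
      obtain ⟨z, rfl⟩ := Submodule.Quotient.mk_surjective _ z
      rw [← Submodule.Quotient.mk_smul, Submodule.Quotient.mk_eq_zero]
      exact Submodule.smul_mem_smul ha trivial
    have hK : Ring.KrullDimLE 0 (A ⧸ Module.annihilator A (A ⧸ (I • (⊤ : Submodule A A)))) := by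
      rw [Ideal.krullDimLE_zero_quotient_iff_forall_minimalPrimes_isMaximal]
      intro J hJ
      have hJp := hJ.1.1
      apply Ideal.isMaximal_of_isIntegral_of_isMaximal_comap (R := R) J
      have hmJ : m ≤ J.comap (algebraMap R A) := Ideal.map_le_iff_le_comap.1 (hle.trans hJ.1.2)
      rw [← (maximalIdeal.isMaximal R).eq_of_le (Ideal.IsPrime.ne_top inferInstance) hmJ]
      exact maximalIdeal.isMaximal R
    have : Nontrivial (A ⧸ Module.annihilator A (A ⧸ (I • (⊤ : Submodule A A)))) := by
      rw [Ideal.Quotient.nontrivial_iff, Ne, Ideal.eq_top_iff_one, Module.mem_annihilator]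
      intro h
      obtain ⟨z, hz⟩ := exists_ne (0 : A ⧸ (I • (⊤ : Submodule A A)))
      exact hz (by simpa using h z)
    exact ringKrullDimZero_iff_ringKrullDim_eq_zero.1 hK
  have hdepth : LocCoh.idealDepth I A = d := by
    have h := Depth.supportDim_eq_supportDim_quotient_add_idealDepth hIm hCM
    rw [hq, zero_add, Module.supportDim_self_eq_ringKrullDim, hdimA, hd] at h
    exact_mod_cast h.symm
  have key : ∀ n ≤ d, ∃ rs : List R, rs.length = n ∧ (∀ r ∈ rs, r ∈ m) ∧
      IsWeaklyRegular A (rs.map (algebraMap R A)) := by
    intro n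
    induction n with
    | zero => exact fun _ => ⟨[], rfl, by simp, by simp⟩
    | succ n ih =>
      intro hn
      obtain ⟨rs, hlen, hmem, hreg⟩ := ih (by omega)
      let N := A ⧸ (Ideal.ofList (rs.map (algebraMap R A)) • ⊤ : Submodule A A)
      have hmemI : ∀ r ∈ rs.map (algebraMap R A), r ∈ I := by
        simpa using fun r hr => Ideal.mem_map_of_mem _ (hmem r hr)
      have h1 : 1 ≤ LocCoh.idealDepth I N := by
        have h := Depth.idealDepth_quotient_add_length _ A hreg hmemI
        rw [hdepth, List.length_map, hlen] at h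
        by_contra hc
        have h0 : LocCoh.idealDepth I N = 0 := by
          have := not_le.1 hc
          simpa using ENat.lt_one_iff_eq_zero.1 this
        rw [h0, zero_add] at h
        exact absurd (by exact_mod_cast h : n = d) (by omega)
      have hass := Depth.one_le_idealDepth_iff.1 h1
      have hfin := associatedPrimes.finite A N
      obtain ⟨x, hxm, hx⟩ : ∃ x ∈ m, ∀ p ∈ associatedPrimes A N, algebraMap R A x ∉ p := by
        by_contra hc
        push Not at hc
        have hsub : (m : Set R) ⊆ ⋃ p ∈ associatedPrimes A N, (Ideal.comap (algebraMap R A) p : Set R) := by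
          intro x hx
          obtain ⟨p, hp, hxp⟩ := hc x hx
          exact Set.mem_biUnion hp hxp
        obtain ⟨p, hp, hle⟩ := (Ideal.subset_union_prime_finite hfin ⊤ ⊤
          (fun p hp _ _ => (IsAssociatedPrime.isPrime hp).comap _)).1 hsub
        exact hass p hp (Ideal.map_le_iff_le_comap.2 hle)
      have hxreg : IsSMulRegular N (algebraMap R A x) := by
        by_contra h
        have : algebraMap R A x ∈ ⋃ p ∈ associatedPrimes A N, (p : Set A) := by
          rw [biUnion_associatedPrimes_eq_compl_regular]
          exact h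
        obtain ⟨p, hp, hxp⟩ := Set.mem_iUnion₂.1 this
        exact hx p hp hxp
      refine ⟨rs ++ [x], by simp [hlen], ?_, ?_⟩
      · simp only [List.mem_append, List.mem_singleton]
        rintro r (hr | rfl)
        · exact hmem r hr
        · exact hxm
      · rw [List.map_append, isWeaklyRegular_append_iff]
        exact ⟨hreg, (isWeaklyRegular_singleton_iff _ _).2 hxreg⟩
  obtain ⟨rs, hlen, hmem, hreg⟩ := key d le_rfl
  have hle : (d : ℕ∞) ≤ LocCoh.depth R A := by
    rw [← hlen]
    exact Depth.le_idealDepth_of_isWeaklyRegular ((isWeaklyRegular_map_algebraMap_iff A A rs).1 hreg) hmem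
  have : Nontrivial A := inferInstance
  refine RegLoc.MCM.free_of_depth_eq_dim A (le_antisymm ?_ ?_)
  · exact Depth.depth_le_supportDim.trans (Module.supportDim_le_ringKrullDim R A)
  · rw [hd]; exact WithBot.coe_le_coe.2 hle

theorem free_of_finite' (R : Type u) [CommRing R] [IsRegularLocalRing R] (A : Type v) [CommRing A]
    [IsRegularLocalRing A] [Algebra R A] [Module.Finite R A] (hinj : Function.Injective (algebraMap R A)) :
    Module.Free R A := by
  obtain ⟨n, f, hf⟩ := Module.Finite.exists_fin' R A
  have : Small.{u} A := small_of_surjective hf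
  let e : Shrink.{u} A ≃ₐ[R] A := Shrink.algEquiv R A
  have : IsRegularLocalRing (Shrink.{u} A) := IsRegularLocalRing.of_ringEquiv e.symm.toRingEquiv
  have := Depth.isCohenMacaulayLocalRing_of_isRegularLocalRing (R := Shrink.{u} A)
  have : Module.Finite R (Shrink.{u} A) := Module.Finite.equiv e.symm.toLinearEquiv
  have := free_of_finite R (Shrink.{u} A) (fun a b h => hinj (by
    have := congrArg e h
    simpa using this))
  exact Module.Free.of_equiv e.toLinearEquiv

end Groth.Agent.InvQLib.FiniteFree
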