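import Mathlib
import Groth.Agent.Depth.CM

/-!
# Depth along finite maps and retracts; support dimension of localised faithful modules
-/

set_option autoImplicit false

universe u v v'

noncomputable section

namespace Groth.Agent.InvQLib

open RingTheory.Sequence Groth.Agent.Depth
open scoped Pointwise

section Retract

variable {A : Type u} [CommRing A]

theorem isWeaklyRegular_retract :
    ∀ (rs : List A) {M : Type v} [AddCommGroup M] [Module A M] {N : Type v'} [AddCommGroup N] [Module A N]
      (i : N →ₗ[A] M) (π : M →ₗ[A] N), π ∘ₗ i = LinearMap.id → IsWeaklyRegular M rs → IsWeaklyRegular N rs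
  | [], M, _, _, N, _, _, _, _, _, _ => IsWeaklyRegular.nil A N
  | x :: rs, M, _, _, N, _, _, i, π, h, hreg => by
    rw [isWeaklyRegular_cons_iff] at hreg ⊢
    have hinj : Function.Injective i := fun a b hab => by
      simpa [hab] using (LinearMap.congr_fun h a).symm.trans ((congrArg π hab).trans (LinearMap.congr_fun h b))
    refine ⟨fun a b hab => hinj (hreg.1 (show x • i a = x • i b by
      have hab' : x • a = x • b := hab
      rw [← map_smul, ← map_smul, hab'])), ?_⟩
    refine isWeaklyRegular_retract rs (QuotSMulTop.map x i) (QuotSMulTop.map x π) ?_ hreg.2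
    rw [← QuotSMulTop.map_comp, h, QuotSMulTop.map_id]

theorem idealDepth_le_of_retract (I : Ideal A) {M : Type v} [AddCommGroup M] [Module A M] {N : Type v'}
    [AddCommGroup N] [Module A N] (i : N →ₗ[A] M) (π : M →ₗ[A] N) (h : π ∘ₗ i = LinearMap.id) :
    LocCoh.idealDepth I M ≤ LocCoh.idealDepth I N := by
  by_cases hM : I • (⊤ : Submodule A M) = ⊤
  · have hN : I • (⊤ : Submodule A N) = ⊤ := by
      have := congrArg (Submodule.map π) hM
      rwa [Submodule.map_smul'', Submodule.map_top,
        LinearMap.range_eq_top.2 (fun n => ⟨i n, LinearMap.congr_fun h n⟩)] at this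
    rw [idealDepth_eq_top_of_smul_top_eq_top hN]
    exact le_top
  · rw [idealDepth_eq_iSup hM]
    exact iSup₂_le fun rs hrs => le_idealDepth_of_isWeaklyRegular (isWeaklyRegular_retract rs i π h hrs.1) hrs.2

end Retract

section Finite

variable {A : Type u} [CommRing A] [IsNoetherianRing A] {S : Type u} [CommRing S] [IsNoetherianRing S]
  [Algebra A S]

theorem le_idealDepth_of_le_idealDepth_map (I : Ideal A) (n : ℕ) :
    ∀ (N : Type u) [AddCommGroup N] [Module A N] [Module S N] [IsScalarTower A S N]
      [Module.Finite A N] [Module.Finite S N],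
      (n : ℕ∞) ≤ LocCoh.idealDepth (I.map (algebraMap A S)) N → (n : ℕ∞) ≤ LocCoh.idealDepth I N := by
  induction n with
  | zero => intros; simp
  | succ n ih0 =>
    intro N _ _ _ _ _ _ h
    have h1 : 1 ≤ LocCoh.idealDepth (I.map (algebraMap A S)) N := le_trans (by exact_mod_cast Nat.succ_pos n) h
    obtain ⟨s, hs, hsreg⟩ := exists_isSMulRegular_of_one_le_idealDepth h1
    obtain ⟨x, hx, hxreg⟩ : ∃ x ∈ I, IsSMulRegular N x := by
      refine exists_isSMulRegular_of_forall_not_le fun P hP hIP => ?_
      obtain ⟨hPp, y, hy⟩ := (isAssociatedPrime_iff).1 hP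
      have hy0 : y ≠ 0 := by
        rintro rfl
        apply hPp.ne_top
        rw [hy]
        exact (Ideal.eq_top_iff_one _).2 (by simp [Submodule.mem_colon_singleton])
      have hkill : ∀ t ∈ I.map (algebraMap A S), t • y = 0 := by
        intro t ht
        induction ht using Submodule.span_induction with
        | mem t ht =>
          obtain ⟨a, ha, rfl⟩ := ht
          have := hIP ha
          rw [hy, Submodule.mem_colon_singleton, Submodule.mem_bot] at this
          rwa [algebraMap_smul]
        | zero => simp
        | add a b _ _ ha hb => rw [add_smul, ha, hb, add_zero]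
        | smul c a _ ha => rw [smul_assoc, ha, smul_zero]
      exact hy0 (hsreg (show s • y = s • (0 : N) by rw [hkill s hs, smul_zero]))
    have hx' : algebraMap A S x ∈ I.map (algebraMap A S) := Ideal.mem_map_of_mem _ hx
    have hxreg' : IsSMulRegular N (algebraMap A S x) := fun a b hab => hxreg (by
      simpa [algebraMap_smul] using hab)
    have : Module.Finite A (QuotSMulTop (algebraMap A S x) N) :=
      Module.Finite.of_surjective ((Submodule.mkQ (algebraMap A S x • (⊤ : Submodule S N))).restrictScalars A) (Submodule.mkQ_surjective (algebraMap A S x • (⊤ : Submodule S N)))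
    have ih := ih0 (QuotSMulTop (algebraMap A S x) N)
      ((le_idealDepth_quotSMulTop_iff hx' hxreg' n).2 h)
    let e : QuotSMulTop x N ≃ₗ[A] QuotSMulTop (algebraMap A S x) N :=
      (Submodule.quotEquivOfEq _ _ (by
        ext y
        simp [Submodule.mem_smul_pointwise_iff_exists, algebraMap_smul])).trans
        (Submodule.Quotient.restrictScalarsEquiv A _)
    rw [← idealDepth_congr e] at ih
    exact (le_idealDepth_quotSMulTop_iff hx hxreg n).1 ih

theorem idealDepth_map_le [Module.Finite A S] (I : Ideal A) :
    LocCoh.idealDepth (I.map (algebraMap A S)) S ≤ LocCoh.idealDepth I S := by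
  refine ENat.forall_natCast_le_iff_le.1 fun n hn => ?_
  exact le_idealDepth_of_le_idealDepth_map I n S hn

end Finite

theorem supportDim_localizedModule_of_injective {A : Type u} [CommRing A] {R : Type u} [CommRing R]
    [Algebra A R] [Module.Finite A R] (hinj : Function.Injective (algebraMap A R)) (p : Ideal A) [p.IsPrime] :
    Module.supportDim (Localization.AtPrime p) (LocalizedModule p.primeCompl R) =
      ringKrullDim (Localization.AtPrime p) := by
  rw [Module.supportDim_eq_ringKrullDim_quotient_annihilator]
  have : Module.annihilator (Localization.AtPrime p) (LocalizedModule p.primeCompl R) = ⊥ := by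
    refine eq_bot_iff.2 fun z hz => ?_
    obtain ⟨⟨a, s⟩, rfl⟩ := IsLocalization.mk'_surjective p.primeCompl z
    have h := Module.mem_annihilator.1 hz (LocalizedModule.mk 1 1)
    rw [← Localization.mk_eq_mk', LocalizedModule.mk_smul_mk, ← LocalizedModule.zero_mk 1, LocalizedModule.mk_eq] at h
    obtain ⟨t, ht⟩ := h
    simp only [one_smul, smul_zero, Submonoid.smul_def, smul_smul, Algebra.smul_def, mul_one] at ht
    rw [Submodule.mem_bot, IsLocalization.mk'_eq_zero_iff]
    exact ⟨t, hinj (by rw [map_mul, map_zero]; exact ht)⟩
  rw [this]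
  exact ringKrullDim_eq_of_ringEquiv (RingEquiv.quotientBot _)

end Groth.Agent.InvQLib
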