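import Mathlib
import Groth.Agent.Comod.Basic
import Groth.Agent.Comod.Reynolds

/-!
# Affine GIT over an algebraically closed field: orbit morphisms, points, Reynolds operator
-/

set_option autoImplicit false

universe u v w

noncomputable section

open TensorProduct HopfRep WithConv

namespace Groth.Agent.InvQLib

section General

variable {k : Type u} [Field k] {A : Type v} [CommRing A] [HopfAlgebra k A]
  {R : Type w} [CommRing R] [Algebra k R] [HopfRep.Comod k A R] [GLin.IsCoactAlg k A R]

theorem point_act (x : R →ₐ[k] k) (g : A →ₐ[k] k) (f : R) :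
    x (HopfRep.Comod.act k A R g f) = g (GLin.orbitHom k A x f) := by
  simp only [HopfRep.Comod.act, GLin.orbitHom, LinearMap.comp_apply, LinearEquiv.coe_coe, AlgHom.comp_apply,
    GLin.coactAlgHom_apply]
  induction HopfRep.Comod.coact (k := k) (A := A) f using TensorProduct.induction_on with
  | zero => simp
  | tmul a b => simp [mul_comm]
  | add a b ha hb => simp only [map_add, ha, hb]

theorem act_eq_contract (g : A →ₐ[k] k) (f : R) :
    HopfRep.Comod.act k A R g f = Comod.contract g.toLinearMap f := rfl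

theorem act_mul (g : A →ₐ[k] k) (a b : R) :
    HopfRep.Comod.act k A R g (a * b) = HopfRep.Comod.act k A R g a * HopfRep.Comod.act k A R g b := by
  let L : R ⊗[k] A →ₐ[k] R :=
    (Algebra.TensorProduct.rid k k R).toAlgHom.comp (Algebra.TensorProduct.map (AlgHom.id k R) g)
  have hL : ∀ z : R ⊗[k] A, (TensorProduct.rid k R) (LinearMap.lTensor R g.toLinearMap z) = L z := by
    intro z
    induction z using TensorProduct.induction_on with
    | zero => simp
    | tmul a b => simp [L]
    | add a b ha hb => simp only [map_add, ha, hb]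
  simp only [HopfRep.Comod.act, LinearMap.comp_apply, LinearEquiv.coe_coe]
  rw [GLin.IsCoactAlg.coact_mul, hL, hL, hL, map_mul]

theorem orbitHom_of_fixed {f : R} (hf : f ∈ HopfRep.fixedPts k A R) (x : R →ₐ[k] k) :
    GLin.orbitHom k A x f = algebraMap k A (x f) := by
  have h : HopfRep.Comod.coact (k := k) (A := A) f = f ⊗ₜ[k] (1 : A) := hf
  simp [GLin.orbitHom, h, Algebra.algebraMap_eq_smul_one]

theorem counit_orbitHom (x : R →ₐ[k] k) (f : R) :
    Bialgebra.counitAlgHom k A (GLin.orbitHom k A x f) = x f := by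
  rw [← point_act]
  congr 1
  exact Comod.contract_counit f

theorem orbitHom_contract (x : R →ₐ[k] k) (φ : A →ₗ[k] k) (f : R) :
    GLin.orbitHom k A x (Comod.contract φ f) = Comod.contract φ (GLin.orbitHom k A x f) := by
  have hc := LinearMap.congr_fun (HopfRep.Comod.coassoc (k := k) (A := A) (V := R)) f
  simp only [LinearMap.comp_apply, LinearEquiv.coe_coe] at hc
  let X : R ⊗[k] A →ₗ[k] A := (TensorProduct.lid k A).toLinearMap ∘ₗ x.toLinearMap.rTensor A
  have ho : ∀ r, GLin.orbitHom k A x r = X (HopfRep.Comod.coact (k := k) (A := A) r) := by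
    intro r
    simp only [GLin.orbitHom, AlgHom.comp_apply, GLin.coactAlgHom_apply, X, LinearMap.comp_apply,
      LinearEquiv.coe_coe]
    induction HopfRep.Comod.coact (k := k) (A := A) r using TensorProduct.induction_on with
    | zero => simp
    | tmul a b => simp
    | add a b ha hb => simp only [map_add, ha, hb]
  have h1 : ∀ z : R ⊗[k] A, Comod.slice φ ((CoalgebraStruct.comul (R := k) (A := A)) (X z)) =
      X (Comod.slice φ ((TensorProduct.assoc k R A A).symm ((CoalgebraStruct.comul (R := k) (A := A)).lTensor R z))) := by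
    intro z
    induction z using TensorProduct.induction_on with
    | zero => simp
    | tmul r a =>
      simp only [X, LinearMap.comp_apply, LinearEquiv.coe_coe, LinearMap.rTensor_tmul, TensorProduct.lid_tmul,
        map_smul, LinearMap.lTensor_tmul, AlgHom.toLinearMap_apply]
      induction CoalgebraStruct.comul (R := k) (A := A) a using TensorProduct.induction_on with
      | zero => simp
      | tmul b c => simp [smul_smul, TensorProduct.smul_tmul', mul_comm]
      | add b c hb hc => simp only [tmul_add, map_add, smul_add, hb, hc]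
    | add a b ha hb => simp only [map_add, ha, hb]
  rw [ho, ho]
  change _ = Comod.slice φ ((CoalgebraStruct.comul (R := k) (A := A)) _)
  rw [h1, ← hc, LinearEquiv.symm_apply_apply, Comod.slice_rTensor]
  rfl

theorem isSubcomod_ker (x : R →ₐ[k] k) :
    HopfRep.IsSubcomod (k := k) (A := A) ((RingHom.ker (GLin.orbitHom k A x)).restrictScalars k) := by
  refine Comod.isSubcomod_iff.2 fun φ f hf => ?_
  simp only [Submodule.restrictScalars_mem, RingHom.mem_ker] at hf ⊢
  rw [orbitHom_contract, hf, map_zero]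

variable (k A) in
/-- The ideal of the orbit closure of `x`. -/
def orbitIdeal (x : R →ₐ[k] k) : Ideal R := (RingHom.ker (GLin.orbitHom k A x)).radical

theorem isRadical_orbitIdeal (x : R →ₐ[k] k) : (orbitIdeal k A x).IsRadical := Ideal.radical_isRadical _

end General

section Points

variable {k : Type u} [Field k] [IsAlgClosed k]

theorem exists_point {R : Type w} [CommRing R] [Algebra k R] [Algebra.FiniteType k R] {I : Ideal R}
    (hI : I ≠ ⊤) : ∃ z : R →ₐ[k] k, ∀ f ∈ I, z f = 0 := by
  obtain ⟨m, hm, hle⟩ := Ideal.exists_le_maximal I hI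
  let := Ideal.Quotient.field m
  have : Module.Finite k (R ⧸ m) := finite_of_finite_type_of_isJacobsonRing k (R ⧸ m)
  have hb : Function.Bijective (algebraMap k (R ⧸ m)) :=
    IsAlgClosed.algebraMap_bijective_of_isIntegral (k := k) (K := R ⧸ m)
  let e : k ≃ₐ[k] (R ⧸ m) := AlgEquiv.ofBijective (Algebra.ofId k (R ⧸ m)) hb
  refine ⟨e.symm.toAlgHom.comp (Ideal.Quotient.mkₐ k m), fun f hf => ?_⟩
  change e.symm (Ideal.Quotient.mk m f) = 0
  rw [Ideal.Quotient.eq_zero_iff_mem.mpr (hle hf), map_zero]

theorem isNilpotent_of_forall_point {A : Type v} [CommRing A] [Algebra k A] [Algebra.FiniteType k A] {a : A}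
    (h : ∀ g : A →ₐ[k] k, g a = 0) : IsNilpotent a := by
  have : IsJacobsonRing A := isJacobsonRing_of_finiteType (A := k) (B := A)
  rw [← mem_nilradical, nilradical, Ideal.zero_eq_bot, Ideal.radical_eq_jacobson, Ideal.jacobson, Ideal.mem_sInf]
  rintro m ⟨-, hm⟩
  obtain ⟨g, hg⟩ := exists_point (k := k) (I := m) hm.ne_top
  have hker : m = RingHom.ker g := hm.eq_of_le (RingHom.ker_ne_top g) fun f hf => hg f hf
  rw [hker, RingHom.mem_ker]
  exact h g

variable {A : Type v} [CommRing A] [HopfAlgebra k A] [Algebra.FiniteType k A]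
  {R : Type w} [CommRing R] [Algebra k R] [HopfRep.Comod k A R] [GLin.IsCoactAlg k A R]

theorem mem_orbitIdeal_iff {x : R →ₐ[k] k} {f : R} :
    f ∈ orbitIdeal k A x ↔ ∀ g : A →ₐ[k] k, x (HopfRep.Comod.act k A R g f) = 0 := by
  simp only [point_act]
  constructor
  · rintro ⟨n, hn⟩ g
    rw [RingHom.mem_ker] at hn
    have h := congrArg g hn
    rw [map_pow, map_pow, map_zero] at h
    exact eq_zero_of_pow_eq_zero h
  · intro h
    obtain ⟨n, hn⟩ := isNilpotent_of_forall_point h
    exact ⟨n, by rw [RingHom.mem_ker, map_pow, hn]⟩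

theorem forall_orbit_iff (x z : R →ₐ[k] k) :
    (∀ f : R, (∀ g : A →ₐ[k] k, x (HopfRep.Comod.act k A R g f) = 0) → z f = 0) ↔
      orbitIdeal k A x ≤ RingHom.ker z := by
  simp only [← mem_orbitIdeal_iff, SetLike.le_def, RingHom.mem_ker]

end Points

section Reynolds

variable {k : Type u} [Field k] {A : Type u} [CommRing A] [HopfAlgebra k A]
  {R : Type u} [CommRing R] [Algebra k R] [HopfRep.Comod k A R] [GLin.IsCoactAlg k A R]

theorem exists_reynolds (hG : HopfRep.IsLinearlyReductive k A) :
    ∃ E : R →ₗ[k] R, (∀ x, E x ∈ HopfRep.fixedPts k A R) ∧ (∀ x ∈ HopfRep.fixedPts k A R, E x = x) ∧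
      (∀ (U : Submodule k R), HopfRep.IsSubcomod (k := k) (A := A) U → ∀ x ∈ U, E x ∈ U) ∧
      (∀ x, ∀ y ∈ HopfRep.fixedPts k A R, E (x * y) = E x * y) := by
  have := Comod.Reynolds.isSemisimpleModule hG R
  obtain ⟨E, h1, h2, h3⟩ := Comod.Reynolds.exists_reynolds (k := k) (A := A) (V := R)
  exact ⟨E, fun x => (h3 _).1 (LinearMap.congr_fun h2 x), fun x => (h3 x).2,
    fun U hU x hx => Comod.Reynolds.reynolds_mem h1 h2 h3 hU hx,
    fun x y hy => Comod.Reynolds.mul_invariant h1 h2 h3 x hy⟩

variable [IsAlgClosed k] [Algebra.FiniteType k A] [Algebra.FiniteType k R]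

/-- Points separated by no invariant have meeting orbit closures. -/
theorem exists_common_of_forall_eq (hG : HopfRep.IsLinearlyReductive k A) (x y : R →ₐ[k] k)
    (h : ∀ f ∈ HopfRep.fixedPts k A R, x f = y f) :
    ∃ z : R →ₐ[k] k, orbitIdeal k A x ≤ RingHom.ker z ∧ orbitIdeal k A y ≤ RingHom.ker z := by
  obtain ⟨E, hfix, hid, hsub, -⟩ := exists_reynolds (R := R) hG
  have hne : RingHom.ker (GLin.orbitHom k A x) ⊔ RingHom.ker (GLin.orbitHom k A y) ≠ ⊤ := by
    intro htop
    obtain ⟨a, ha, b, hb, hab⟩ := Submodule.mem_sup.1 (htop.ge (Submodule.mem_top (x := (1 : R))))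
    have key : ∀ (z : R →ₐ[k] k) (c : R), c ∈ RingHom.ker (GLin.orbitHom k A z) → z (E c) = 0 := by
      intro z c hc
      have hh : E c ∈ RingHom.ker (GLin.orbitHom k A z) := hsub _ (isSubcomod_ker z) c hc
      rw [RingHom.mem_ker, orbitHom_of_fixed (hfix c)] at hh
      have := congrArg (Bialgebra.counitAlgHom k A) hh
      simpa using this
    have hone : E 1 = 1 := hid 1 (by
      change HopfRep.Comod.coact (k := k) (A := A) (1 : R) = _
      rw [GLin.IsCoactAlg.coact_one (k := k)]; rfl)
    have hxa := key x a ha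
    have hyb := key y b hb
    have h1 : y (E a) + y (E b) = 1 := by rw [← map_add, ← map_add, hab, hone, map_one]
    rw [← h _ (hfix a), hxa, hyb, add_zero] at h1
    exact zero_ne_one h1
  obtain ⟨z, hz⟩ := exists_point (k := k) hne
  refine ⟨z, ?_, ?_⟩ <;>
    refine (Ideal.IsPrime.radical_le_iff (RingHom.ker_isPrime z)).2 fun f hf => ?_
  · exact hz f (Ideal.mem_sup_left hf)
  · exact hz f (Ideal.mem_sup_right hf)

theorem eq_of_common {x y z : R →ₐ[k] k} (hx : orbitIdeal k A x ≤ RingHom.ker z)
    (hy : orbitIdeal k A y ≤ RingHom.ker z) {f : R} (hf : f ∈ HopfRep.fixedPts k A R) : x f = y f := by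
  have key : ∀ w : R →ₐ[k] k, orbitIdeal k A w ≤ RingHom.ker z → z f = w f := by
    intro w hw
    have : f - algebraMap k R (w f) ∈ RingHom.ker z := hw (Ideal.le_radical (by
      simp [RingHom.mem_ker, orbitHom_of_fixed hf]))
    simpa [RingHom.mem_ker, sub_eq_zero] using this
  rw [← key x hx, key y hy]

/-- Points of the affine quotient lift to points of any stable closed subset meeting them. -/
theorem exists_point_over (hG : HopfRep.IsLinearlyReductive k A) (I : Ideal R)
    (hI : HopfRep.IsSubcomod (k := k) (A := A) (I.restrictScalars k))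
    (S : Subalgebra k R) (hS : ∀ f, f ∈ S ↔ f ∈ HopfRep.fixedPts k A R)
    (φ : S →ₐ[k] k) (hφ : ∀ f : S, (f : R) ∈ I → φ f = 0) :
    ∃ x : R →ₐ[k] k, (∀ f ∈ I, x f = 0) ∧ ∀ f : S, x (f : R) = φ f := by
  obtain ⟨E, hfix, hid, hsub, hmul⟩ := exists_reynolds (R := R) hG
  let P : Set R := Subtype.val '' (RingHom.ker φ : Set S)
  have hne : I ⊔ Ideal.span P ≠ ⊤ := by
    intro htop
    obtain ⟨a, ha, b, hb, hab⟩ := Submodule.mem_sup.1 (htop.ge (Submodule.mem_top (x := (1 : R))))
    let E' : R →ₗ[k] S :=
      { toFun := fun r => ⟨E r, (hS _).2 (hfix r)⟩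
        map_add' := fun r r' => Subtype.ext (map_add E r r')
        map_smul' := fun c r => Subtype.ext (map_smul E c r) }
    have hb' : ∀ b' ∈ Ideal.span P, ∀ r : R, φ (E' (b' * r)) = 0 := by
      intro b' hb'
      induction hb' using Submodule.span_induction with
      | mem p hp =>
        obtain ⟨p, hp, rfl⟩ := hp
        intro r
        have : E' ((p : R) * r) = E' r * p := Subtype.ext (by
          change E ((p : R) * r) = E r * p
          rw [mul_comm, hmul r _ ((hS _).1 p.2)])
        rw [this, map_mul, show φ p = 0 from hp, mul_zero]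
      | zero => intro r; simp [map_zero]
      | add u v _ _ hu hv => intro r; rw [add_mul, map_add, map_add, hu, hv, add_zero]
      | smul c u _ hu => intro r; rw [smul_eq_mul, mul_comm c u, mul_assoc]; exact hu _
    have hone : E' 1 = 1 := Subtype.ext (hid 1 ((hS 1).1 S.one_mem))
    have h1 : φ (E' a) + φ (E' b) = 1 := by rw [← map_add, ← map_add, hab, hone, map_one]
    have hb1 := hb' b hb 1
    rw [mul_one] at hb1
    rw [hφ (E' a) (hsub _ hI a ha), hb1, add_zero] at h1
    exact zero_ne_one h1
  obtain ⟨x, hx⟩ := exists_point (k := k) hne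
  refine ⟨x, fun f hf => hx f (Ideal.mem_sup_left hf), fun f => ?_⟩
  have : ((f - algebraMap k S (φ f) : S) : R) ∈ I ⊔ Ideal.span P :=
    Ideal.mem_sup_right (Ideal.subset_span ⟨_, by simp [RingHom.mem_ker], rfl⟩)
  have h := hx _ this
  simpa [sub_eq_zero] using h

end Reynolds

end Groth.Agent.InvQLib
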