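import Mathlib
import Groth.Agent.Comod.Cosemisimple
import Groth.Agent.Comod.Matrix
import Groth.Prelude.Def_GLin5

/-!
# A coalgebra spanned by symmetric tensor powers of a matrix is cosemisimple in characteristic zero;
# linear reductivity of GLn and SLn
-/

set_option autoImplicit false

universe u v w w'

noncomputable section

open TensorProduct WithConv

namespace Groth.Agent.InvQLib.GLnRed

/-- a finite-dimensional algebra of matrices with nondegenerate trace form is semisimple -/
theorem isSemisimpleRing_of_trace {k : Type u} [Field k] {ι : Type w} [Fintype ι] [DecidableEq ι]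
    (S : Subalgebra k (Matrix ι ι k))
    (h : ∀ x ∈ S, (∀ y ∈ S, Matrix.trace (y * x) = 0) → x = 0) : IsSemisimpleRing S := by
  haveI : IsArtinianRing S := IsArtinianRing.of_finite k S
  rw [IsArtinianRing.isSemisimpleRing_iff_jacobson, eq_bot_iff]
  intro x hx
  rw [Ideal.mem_bot]
  refine Subtype.ext (h x.1 x.2 fun y hy => ?_)
  obtain ⟨m, hm⟩ := IsArtinianRing.isNilpotent_jacobson_bot (R := S)
  have hmem : (⟨y, hy⟩ : S) * x ∈ Ring.jacobson S := Ideal.mul_mem_left _ _ hx
  rw [Ideal.jacobson_bot] at hm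
  have hnil : IsNilpotent ((⟨y, hy⟩ : S) * x) := ⟨m, by
    have := Ideal.pow_mem_pow hmem m
    rw [hm] at this
    exact Ideal.mem_bot.mp this⟩
  have := hnil.map S.val
  rw [map_mul] at this
  exact (Matrix.isNilpotent_trace_of_isNilpotent this).eq_zero

section General

variable {k : Type u} [Field k] {C : Type v} [AddCommGroup C] [Module k C] [Coalgebra k C]
  {ι : Type w} [Fintype ι] [DecidableEq ι]

/-- evaluation of a form on a comultiplicative matrix -/
def rho (a : ι → ι → C) (h : Comod.IsMat k a) : Comod.Dual k C →+* Matrix ι ι k where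
  toFun φ := Matrix.of fun i j => φ (a i j)
  map_one' := by
    ext i j
    simp [h.counit, Matrix.one_apply]
  map_mul' φ ψ := by
    ext i j
    simp [LinearMap.convMul_apply, h.comul, map_sum, Matrix.mul_apply]
  map_zero' := rfl
  map_add' φ ψ := rfl

/-- the image of the dual algebra -/
def imgAlg (a : ι → ι → C) (h : Comod.IsMat k a) : Subalgebra k (Matrix ι ι k) :=
  { (rho a h).range with
    algebraMap_mem' := fun c => ⟨c • 1, by
      ext i j
      change (c • (1 : Comod.Dual k C)) (a i j) = _
      simp [h.counit, Matrix.algebraMap_matrix_apply]⟩ }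

theorem smul_regular (φ : Comod.Dual k C) {a : ι → ι → C} (h : Comod.IsMat k a) (i j : ι) :
    φ • a i j = ∑ l, φ (a l j) • a i l := by
  rw [Comod.smul_def, Comod.contract_apply]
  change Comod.slice φ.ofConv (Coalgebra.comul (R := k) (a i j)) = _
  rw [h.comul, map_sum]
  simp only [Comod.slice_tmul]

theorem range_mem_sSup {a : ι → ι → C} (h : Comod.IsMat k a) [IsSemisimpleRing (imgAlg a h)]
    (i j : ι) : ∃ N : Submodule (Comod.Dual k C) C, IsSemisimpleModule (Comod.Dual k C) N ∧ a i j ∈ N := by
  let ρ' : Comod.Dual k C →+* imgAlg a h := (rho a h).codRestrict _ fun φ => ⟨φ, rfl⟩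
  have hsurj : Function.Surjective ρ' := fun x => by
    obtain ⟨φ, hφ⟩ := x.2
    exact ⟨φ, Subtype.ext hφ⟩
  haveI : RingHomSurjective ρ' := ⟨hsurj⟩
  let rS : imgAlg a h →+* Module.End k (ι → k) :=
    (Matrix.toLinAlgEquiv' (R := k) (n := ι)).toRingEquiv.toRingHom.comp (imgAlg a h).val.toRingHom
  letI mS : Module (imgAlg a h) (ι → k) := Module.compHom (ι → k) rS
  letI mD : Module (Comod.Dual k C) (ι → k) := Module.compHom (ι → k) ρ'
  let idl : (ι → k) →ₛₗ[ρ'] (ι → k) :=
    { toFun := id, map_add' := fun _ _ => rfl, map_smul' := fun _ _ => rfl }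
  haveI : IsSemisimpleModule (Comod.Dual k C) (ι → k) :=
    (idl.isSemisimpleModule_iff_of_bijective Function.bijective_id).2 inferInstance
  let Φ : (ι → k) →ₗ[Comod.Dual k C] C :=
    { toFun := fun x => ∑ l, x l • a i l
      map_add' := fun x y => by simp [add_smul, Finset.sum_add_distrib]
      map_smul' := fun φ x => by
        change ∑ l, (Matrix.toLinAlgEquiv' (rho a h φ)) x l • a i l = φ • ∑ l, x l • a i l
        simp only [Finset.smul_sum, smul_comm φ, smul_regular φ h]
        simp only [Matrix.toLinAlgEquiv'_apply, Matrix.mulVec, dotProduct, rho, RingHom.coe_mk,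
          MonoidHom.coe_mk, OneHom.coe_mk, Matrix.of_apply, Finset.sum_smul, smul_smul]
        rw [Finset.sum_comm]
        refine Finset.sum_congr rfl fun l _ => Finset.sum_congr rfl fun m _ => ?_
        rw [mul_comm]
        all_goals rfl }
  refine ⟨LinearMap.range Φ, IsSemisimpleModule.range Φ, Pi.single j 1, ?_⟩
  change ∑ l, (Pi.single j (1 : k) : ι → k) l • a i l = a i j
  rw [Finset.sum_eq_single j (fun l _ hl => by simp [Pi.single_eq_of_ne hl]) (by simp)]
  simp

/-- A comultiplicative matrix whose entries are constant on the classes of `o` and otherwise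
independent, with classes stable under transposition, generates a semisimple algebra. -/
theorem isSemisimpleRing_imgAlg [CharZero k] {a : ι → ι → C} (h : Comod.IsMat k a) {Q : Type w'}
    (o : ι → ι → Q) (f : Q → C) (hf : LinearIndependent k f) (ha : ∀ i j, a i j = f (o i j))
    (t : Q → Q) (ht : ∀ i j, o j i = t (o i j)) : IsSemisimpleRing (imgAlg a h) := by
  classical
  refine isSemisimpleRing_of_trace _ fun x hx hzero => ?_
  obtain ⟨φ, rfl⟩ := hx
  ext i₀ j₀
  let b := Module.Basis.span hf
  obtain ⟨ψ, hψ⟩ := (b.constr k fun q => if t q = o i₀ j₀ then (1 : k) else 0).exists_extend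
  have hψf : ∀ q, ψ (f q) = if t q = o i₀ j₀ then 1 else 0 := fun q => by
    have := LinearMap.congr_fun hψ (b q)
    rw [Module.Basis.constr_basis] at this
    simpa [b, Module.Basis.span_apply] using this
  have := hzero (rho a h (toConv ψ)) ⟨_, rfl⟩
  have hentry : ∀ i j, (rho a h (toConv ψ)) i j * (rho a h φ) j i =
      if o j i = o i₀ j₀ then (rho a h φ) i₀ j₀ else 0 := by
    intro i j
    have e1 : (rho a h (toConv ψ)) i j = ψ (a i j) := rfl
    rw [e1, ha, hψf, ← ht]
    split_ifs with hij
    · change 1 * φ (a j i) = φ (a i₀ j₀)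
      rw [one_mul, ha, ha, hij]
    · rw [zero_mul]
  simp only [Matrix.trace, Matrix.diag_apply, Matrix.mul_apply, hentry] at this
  rw [← Fintype.sum_prod_type', ← Finset.sum_filter, Finset.sum_const, smul_eq_zero] at this
  refine this.resolve_left fun h0 => ?_
  exact Finset.card_ne_zero.mpr ⟨(j₀, i₀), by simp⟩ h0

end General

section Bialg

variable {k : Type u} [Field k] [CharZero k] {C : Type v} [CommRing C] [Bialgebra k C]

/-- tensor powers of a matrix, times a group-like -/
def powMat {n : ℕ} (x : Fin n → Fin n → C) (g : C) (d : ℕ) (I J : Fin d → Fin n) : C :=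
  (∏ t, x (I t) (J t)) * g

theorem isMat_powMat {n : ℕ} {x : Fin n → Fin n → C} (hx : Comod.IsMat k x) {g : C}
    (hg : IsGroupLikeElem k g) (d : ℕ) : Comod.IsMat k (powMat x g d) := by
  constructor
  · intro I J
    simp only [powMat, ← Bialgebra.comulAlgHom_apply k, map_mul, map_prod]
    simp only [Bialgebra.comulAlgHom_apply, hx.comul, hg.comul_eq_tmul_self]
    rw [Finset.prod_univ_sum, Finset.sum_mul, Fintype.piFinset_univ]
    refine Finset.sum_congr rfl fun L _ => ?_
    have hprod : ∏ t, (x (I t) (L t) ⊗ₜ[k] x (L t) (J t)) =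
        (∏ t, x (I t) (L t)) ⊗ₜ[k] (∏ t, x (L t) (J t)) := by
      induction (Finset.univ : Finset (Fin d)) using Finset.induction_on with
      | empty => simp [Algebra.TensorProduct.one_def]
      | insert t s hts ih =>
        rw [Finset.prod_insert hts, Finset.prod_insert hts, Finset.prod_insert hts, ih,
          Algebra.TensorProduct.tmul_mul_tmul]
    rw [hprod, Algebra.TensorProduct.tmul_mul_tmul]
  · intro I J
    simp only [powMat, ← Bialgebra.counitAlgHom_apply k, map_mul, map_prod]
    simp only [Bialgebra.counitAlgHom_apply, hx.counit, hg.counit_eq_one, mul_one]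
    rw [Fintype.prod_boole]
    simp [funext_iff]

/-- exponent vector of a monomial -/
def expo {n d : ℕ} (I J : Fin d → Fin n) : Fin n × Fin n →₀ ℕ :=
  ∑ t, Finsupp.single (I t, J t) 1

/-- homogeneous monomials -/
def monoEval {n : ℕ} (x : Fin n → Fin n → C) (g : C) (e : Fin n × Fin n →₀ ℕ) : C :=
  (e.prod fun p m => x p.1 p.2 ^ m) * g

theorem powMat_eq {n d : ℕ} (x : Fin n → Fin n → C) (g : C) (I J : Fin d → Fin n) :
    powMat x g d I J = monoEval x g (expo I J) := by
  unfold powMat monoEval expo
  congr 1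
  rw [← Finsupp.prod_finsetSum_index (fun _ => pow_zero _) (fun _ _ _ => pow_add _ _ _)]
  exact Finset.prod_congr rfl fun t _ => by simp [Finsupp.prod_single_index]

theorem degree_expo {n d : ℕ} (I J : Fin d → Fin n) : (expo I J).degree = d := by
  simp [expo, map_sum, Finsupp.degree_single]

theorem swap_expo {n d : ℕ} (I J : Fin d → Fin n) :
    expo J I = (expo I J).mapDomain Prod.swap := by
  simp [expo, Finsupp.mapDomain_finsetSum, Finsupp.mapDomain_single]

theorem exists_semisimple_mem {n : ℕ} {x : Fin n → Fin n → C} (hx : Comod.IsMat k x) {g : C}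
    (hg : IsGroupLikeElem k g) (d : ℕ)
    (hli : LinearIndependent k fun e : {e : Fin n × Fin n →₀ ℕ // e.degree = d} => monoEval x g e.1)
    (I J : Fin d → Fin n) :
    ∃ N : Submodule (Comod.Dual k C) C, IsSemisimpleModule (Comod.Dual k C) N ∧
      powMat x g d I J ∈ N := by
  haveI := isSemisimpleRing_imgAlg (isMat_powMat hx hg d)
    (fun I J => (⟨expo I J, degree_expo I J⟩ : {e : Fin n × Fin n →₀ ℕ // e.degree = d})) _ hli
    (fun I J => powMat_eq x g I J)
    (fun e => ⟨e.1.mapDomain Prod.swap, by rw [Finsupp.degree_mapDomain, e.2]⟩)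
    (fun I J => Subtype.ext (swap_expo I J))
  exact range_mem_sSup (isMat_powMat hx hg d) I J

theorem isLinearlyReductive_of_span {κ : Type w} {c : κ → C} (hspan : Submodule.span k (Set.range c) = ⊤)
    (h : ∀ i, ∃ N : Submodule (Comod.Dual k C) C, IsSemisimpleModule (Comod.Dual k C) N ∧ c i ∈ N) :
    HopfRep.IsLinearlyReductive k C := by
  choose N hN hc using h
  have hC : IsSemisimpleModule (Comod.Dual k C) C := by
    have := isSemisimpleModule_biSup_of_isSemisimpleModule_submodule
      (s := (Set.univ : Set κ)) (p := N) fun i _ => hN i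
    have htop : (⨆ i ∈ (Set.univ : Set κ), N i) = ⊤ := by
      rw [← Submodule.restrictScalars_eq_top_iff k, ← top_le_iff, ← hspan, Submodule.span_le]
      rintro _ ⟨i, rfl⟩
      exact Submodule.mem_iSup_of_mem i (Submodule.mem_iSup_of_mem (Set.mem_univ i) (hc i))
    rw [htop] at this
    exact ((Submodule.topEquiv (R := Comod.Dual k C) (M := C)).toLinearMap.isSemisimpleModule_iff_of_bijective
      (LinearEquiv.bijective _)).1 this
  intro V _ _ _ _
  exact (Comod.isSemisimpleComod_iff k C V).2 (Comod.isSemisimpleModule_of_regular hC V)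

end Bialg

section Groups

open CoordGrp

variable {k : Type u} [Field k] [CharZero k] {n : ℕ}

theorem monoEval_eq (C : Type v) [CommRing C] [Algebra k C] (x : Fin n → Fin n → C) (g : C)
    (e : Fin n × Fin n →₀ ℕ) :
    monoEval x g e = MvPolynomial.aeval (fun p : Fin n × Fin n => x p.1 p.2)
      (MvPolynomial.monomial e (1 : k)) * g := by
  rw [monoEval, MvPolynomial.aeval_monomial, map_one, one_mul]

/-- independence of monomials in a quotient with enough points -/
theorem linearIndependent_monoEval (C : Type v) [CommRing C] [Algebra k C]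
    (x : Fin n → Fin n → C) {g : C} (hg : IsUnit g) (s : Set (Fin n × Fin n →₀ ℕ))
    (hpt : ∀ P ∈ MvPolynomial.restrictSupport k s,
      MvPolynomial.aeval (fun p : Fin n × Fin n => x p.1 p.2) P = 0 → P = 0) :
    LinearIndependent k fun e : s => monoEval x g e.1 := by
  rw [linearIndependent_iff]
  intro c hc
  have h1 : Finsupp.linearCombination k (fun e : s => (MvPolynomial.monomial e.1 (1 : k))) c = 0 := by
    refine hpt _ ?_ ?_
    · rw [Finsupp.linearCombination_apply]
      refine Submodule.sum_mem _ fun e _ => Submodule.smul_mem _ _ ?_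
      rw [MvPolynomial.mem_restrictSupport_iff]
      exact fun a ha => by
        rw [Finset.mem_singleton.mp (MvPolynomial.support_monomial_subset ha)]
        exact e.2
    · refine hg.mul_left_injective ?_
      simp only [zero_mul]
      rw [← hc, Finsupp.linearCombination_apply, Finsupp.linearCombination_apply, map_finsuppSum,
        Finsupp.sum, Finsupp.sum, Finset.sum_mul]
      exact Finset.sum_congr rfl fun e _ => by rw [map_smul, monoEval_eq (k := k), smul_mul_assoc]
  have hli : LinearIndependent k fun e : s => (MvPolynomial.monomial e.1 (1 : k)) := by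
    have := (MvPolynomial.basisMonomials (Fin n × Fin n) k).linearIndependent
    rw [MvPolynomial.coe_basisMonomials] at this
    exact this.comp _ Subtype.val_injective
  exact linearIndependent_iff.mp hli c h1

/-- the point of `GL_n` given by a matrix with unit determinant -/
def glPt (A : Matrix (Fin n) (Fin n) k) (hA : A.det ≠ 0) : GLn n k →ₐ[k] k :=
  Ideal.Quotient.liftₐ (GLb.relIdeal n k) (GLb.aeval n k A A.det⁻¹) (by
    intro a ha
    obtain ⟨b, rfl⟩ := Ideal.mem_span_singleton'.mp ha
    rw [map_mul, show GLb.aeval n k A A.det⁻¹ (GLb.rel n k) = 0 from ?_, mul_zero]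
    rw [GLb.rel, map_sub, map_mul, map_one, GLb.det, AlgHom.map_det, GLb.aeval_mapMatrix_genMat,
      GLb.aeval_D, mul_inv_cancel₀ hA, sub_self])

theorem glPt_X (A : Matrix (Fin n) (Fin n) k) (hA : A.det ≠ 0) (i j : Fin n) :
    glPt A hA (GLn.X i j) = A i j := GLb.aeval_X A _ i j

theorem glPt_det (A : Matrix (Fin n) (Fin n) k) (hA : A.det ≠ 0) :
    glPt A hA GLn.det = A.det := by
  change GLb.aeval n k A A.det⁻¹ (GLb.det n k) = _
  rw [GLb.det, AlgHom.map_det, GLb.aeval_mapMatrix_genMat]

/-- the point of `SL_n` given by a matrix of determinant one -/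
def slPt (A : Matrix (Fin n) (Fin n) k) (hA : A.det = 1) : SLn n k →ₐ[k] k :=
  Ideal.Quotient.liftₐ (GLn.slIdeal n k) (glPt A (by rw [hA]; exact one_ne_zero)) (by
    intro a ha
    obtain ⟨b, rfl⟩ := Ideal.mem_span_singleton'.mp ha
    rw [map_mul, GLn.slRel, map_sub, map_one, glPt_det, sub_eq_zero.mpr hA, mul_zero])

theorem slPt_X (A : Matrix (Fin n) (Fin n) k) (hA : A.det = 1) (i j : Fin n) :
    slPt A hA (SLn.X i j) = A i j := glPt_X A (by rw [hA]; exact one_ne_zero) i j

omit [CharZero k] in
theorem eval_eq_of_point {C : Type v} [CommRing C] [Algebra k C] (φ : C →ₐ[k] k)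
    (x : Fin n → Fin n → C) (A : Matrix (Fin n) (Fin n) k) (hφ : ∀ i j, φ (x i j) = A i j)
    {P : MvPolynomial (Fin n × Fin n) k}
    (h : MvPolynomial.aeval (fun p : Fin n × Fin n => x p.1 p.2) P = 0) :
    MvPolynomial.eval (fun p => A p.1 p.2) P = 0 := by
  have := congrArg φ h
  rw [MvPolynomial.comp_aeval_apply, map_zero] at this
  rw [← this, MvPolynomial.aeval_def, MvPolynomial.eval₂_eq_eval_map]
  simp [hφ]

theorem eq_zero_of_eval {P : MvPolynomial (Fin n × Fin n) k}
    (h : ∀ A : Matrix (Fin n) (Fin n) k, A.det ≠ 0 → MvPolynomial.eval (fun p => A p.1 p.2) P = 0) :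
    P = 0 := by
  have h1 : P * (Matrix.mvPolynomialX (Fin n) (Fin n) k).det = 0 := by
    refine MvPolynomial.funext fun v => ?_
    rw [map_mul, map_zero, RingHom.map_det]
    let A : Matrix (Fin n) (Fin n) k := Matrix.of fun i j => v (i, j)
    have hX : (MvPolynomial.eval v).mapMatrix (Matrix.mvPolynomialX (Fin n) (Fin n) k) = A := by
      ext i j; simp [A, Matrix.mvPolynomialX]
    rw [hX]
    by_cases hd : A.det = 0
    · rw [hd, mul_zero]
    · have := h A hd
      simp only [A, Matrix.of_apply, Prod.mk.eta] at this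
      rw [this, zero_mul]
  exact (mul_eq_zero.mp h1).resolve_right (Matrix.det_mvPolynomialX_ne_zero (Fin n) k)

theorem span_closed {κ : Type w} {C : Type v} [CommRing C] [Algebra k C] (c : κ → C) (z : C)
    (h : ∀ i, ∃ j, c j = c i * z) {y : C} (hy : y ∈ Submodule.span k (Set.range c)) :
    y * z ∈ Submodule.span k (Set.range c) := by
  induction hy using Submodule.span_induction with
  | mem a ha =>
    obtain ⟨i, rfl⟩ := ha
    obtain ⟨j, hj⟩ := h i
    exact Submodule.subset_span ⟨j, hj⟩
  | zero => rw [zero_mul]; exact zero_mem _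
  | add a b _ _ ha hb => rw [add_mul]; exact add_mem ha hb
  | smul r a _ ha => rw [smul_mul_assoc]; exact Submodule.smul_mem _ r ha

theorem GLn_eq_zero {a : GLn n k} (h : ∀ (A : Matrix (Fin n) (Fin n) k) (hA : A.det ≠ 0), glPt A hA a = 0) :
    a = 0 := by
  obtain ⟨P, N, rfl⟩ : ∃ (P : MvPolynomial (Fin n × Fin n) k) (N : ℕ),
      a = MvPolynomial.aeval (fun p : Fin n × Fin n => (GLn.X p.1 p.2 : GLn n k)) P * GLn.Dinv ^ N := by
    let φ := MvPolynomial.aeval (R := k) (fun p : Fin n × Fin n => (GLn.X p.1 p.2 : GLn n k))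
    let dp : MvPolynomial (Fin n × Fin n) k := (Matrix.mvPolynomialX (Fin n) (Fin n) k).det
    have hdp : φ dp = GLn.det := by
      rw [GLn.det_eq, AlgHom.map_det]
      congr 1
      ext i j
      simp [φ, Matrix.mvPolynomialX, GLn.genMat]
    obtain ⟨y, rfl⟩ : ∃ y, GLn.mk n k y = a := Ideal.Quotient.mk_surjective a
    let ψ : MvPolynomial (GLPoly.Idx n) k →ₐ[k] GLn n k := GLn.mk n k
    clear h
    change ∃ P N, ψ y = φ P * _
    induction (y : MvPolynomial (GLPoly.Idx n) k) using MvPolynomial.induction_on with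
    | C r =>
      exact ⟨MvPolynomial.C r, 0, by
        rw [← MvPolynomial.algebraMap_eq, AlgHom.commutes, ← MvPolynomial.algebraMap_eq, AlgHom.commutes,
          pow_zero, mul_one]⟩
    | add p q hp hq =>
      obtain ⟨P, N, hp⟩ := hp
      obtain ⟨Q, N', hq⟩ := hq
      refine ⟨P * dp ^ N' + Q * dp ^ N, N + N', ?_⟩
      have hd : ∀ e : ℕ, (GLn.det : GLn n k) ^ e * GLn.Dinv ^ e = 1 := fun e => by
        rw [← mul_pow, GLn.det_mul_Dinv, one_pow]
      rw [map_add, hp, hq, map_add, map_mul, map_mul, map_pow, map_pow, hdp, pow_add]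
      linear_combination -(φ P * GLn.Dinv ^ N) * hd N' - (φ Q * GLn.Dinv ^ N') * hd N
    | mul_X p i hp =>
      obtain ⟨P, N, hp⟩ := hp
      rcases i with ⟨a, b⟩ | _
      · refine ⟨P * MvPolynomial.X (a, b), N, ?_⟩
        rw [map_mul, hp, map_mul, MvPolynomial.aeval_X]
        change _ * GLn.X a b = _
        ring
      · refine ⟨P, N + 1, ?_⟩
        rw [map_mul, hp, pow_succ, ← mul_assoc]
        rfl
  have : P = 0 := eq_zero_of_eval fun A hA => by
    have h1 := h A hA
    rw [map_mul, map_pow, mul_eq_zero] at h1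
    refine eval_eq_of_point (AlgHom.id k k) (fun i j => A i j) A (fun i j => rfl) ?_
    rcases h1 with h1 | h1
    · rw [MvPolynomial.comp_aeval_apply] at h1
      simpa [glPt_X] using h1
    · exfalso
      have hD : glPt A hA GLn.Dinv = A.det⁻¹ := GLb.aeval_D A _
      rw [hD] at h1
      exact pow_ne_zero N (inv_ne_zero hA) h1
  rw [this, map_zero, zero_mul]

theorem isMat_glnX : Comod.IsMat k (GLn.X : Fin n → Fin n → GLn n k) :=
  ⟨fun i j => GLn.comul_X i j, fun i j => GLn.counit_X i j⟩

theorem isLinearlyReductive_GLn : HopfRep.IsLinearlyReductive k (GLn n k) := by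
  let c : (Σ d : ℕ, ℕ × (Fin d → Fin n) × (Fin d → Fin n)) → GLn n k := fun q =>
    powMat GLn.X (GLn.Dinv ^ q.2.1) q.1 q.2.2.1 q.2.2.2
  have hg : ∀ N : ℕ, IsGroupLikeElem k ((GLn.Dinv : GLn n k) ^ N) := fun N =>
    IsGroupLikeElem.pow ⟨GLn.counit_Dinv, GLn.comul_Dinv⟩
  have hunit : ∀ N : ℕ, IsUnit ((GLn.Dinv : GLn n k) ^ N) := fun N =>
    (IsUnit.of_mul_eq_one_right _ GLn.det_mul_Dinv).pow N
  refine isLinearlyReductive_of_span (c := c) ?_ fun q => ?_
  · rw [eq_top_iff]
    rintro y -
    obtain ⟨P, rfl⟩ : ∃ P, GLn.mk n k P = y := Ideal.Quotient.mk_surjective y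
    change GLn.mk n k (P : MvPolynomial (GLPoly.Idx n) k) ∈ Submodule.span k (Set.range c)
    induction (P : MvPolynomial (GLPoly.Idx n) k) using MvPolynomial.induction_on with
    | C r =>
      have : GLn.mk n k (MvPolynomial.C r : MvPolynomial (GLPoly.Idx n) k) =
          r • c ⟨0, 0, Fin.elim0, Fin.elim0⟩ := by
        change GLn.mk n k (algebraMap k (GLb n k) r) = _
        rw [AlgHom.commutes, Algebra.algebraMap_eq_smul_one]
        simp [c, powMat]
      rw [this]
      exact Submodule.smul_mem _ r (Submodule.subset_span ⟨_, rfl⟩)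
    | add p q hp hq =>
      have : GLn.mk n k (p + q : MvPolynomial (GLPoly.Idx n) k) = GLn.mk n k p + GLn.mk n k q :=
        map_add (GLn.mk n k) _ _
      rw [this]
      exact add_mem hp hq
    | mul_X p i hp =>
      have : GLn.mk n k (p * MvPolynomial.X i : MvPolynomial (GLPoly.Idx n) k) =
          GLn.mk n k p * GLn.mk n k (MvPolynomial.X i : MvPolynomial (GLPoly.Idx n) k) :=
        map_mul (GLn.mk n k) _ _
      rw [this]
      refine span_closed c _ ?_ hp
      rcases i with ⟨i, j⟩ | _
      · rintro ⟨d, N, I, J⟩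
        refine ⟨⟨d + 1, N, Fin.cons i I, Fin.cons j J⟩, ?_⟩
        change powMat GLn.X _ (d + 1) _ _ = powMat GLn.X _ d I J * GLn.X i j
        simp only [powMat, Fin.prod_univ_succ, Fin.cons_zero, Fin.cons_succ]
        ring
      · rintro ⟨d, N, I, J⟩
        refine ⟨⟨d, N + 1, I, J⟩, ?_⟩
        change powMat GLn.X _ d I J = powMat GLn.X _ d I J * GLn.Dinv
        simp only [powMat, pow_succ]
        ring
  · obtain ⟨d, N, I, J⟩ := q
    refine exists_semisimple_mem isMat_glnX (hg N) d ?_ I J
    refine linearIndependent_monoEval _ _ (hunit N) {e | e.degree = d} fun P _ hP => ?_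
    exact eq_zero_of_eval fun A hA => eval_eq_of_point (glPt A hA) _ A (glPt_X A hA) hP

theorem isMat_slnX : Comod.IsMat k (SLn.X : Fin n → Fin n → SLn n k) := by
  constructor
  · intro i j
    have := CoalgHomClass.map_comp_comul_apply (SLn.mkHom n k) (GLn.X i j : GLn n k)
    rw [GLn.comul_X, map_sum] at this
    simp only [TensorProduct.map_tmul] at this
    exact this.symm
  · intro i j
    have := CoalgHomClass.counit_comp_apply (SLn.mkHom n k) (GLn.X i j : GLn n k)
    rw [GLn.counit_X] at this
    exact this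

theorem slMk_Dinv : SLn.mk n k GLn.Dinv = 1 := by
  have := congrArg (SLn.mk n k) (GLn.det_mul_Dinv (n := n) (k := k))
  rwa [map_mul, SLn.det_eq_one, one_mul, map_one] at this

theorem eval_smul_of_restrict {d : ℕ} {P : MvPolynomial (Fin n × Fin n) k}
    (hP : P ∈ MvPolynomial.restrictSupport k {e | e.degree = d}) (c : k) (v : Fin n × Fin n → k) :
    MvPolynomial.eval (fun p => c * v p) P = c ^ d * MvPolynomial.eval v P := by
  rw [MvPolynomial.eval_eq, MvPolynomial.eval_eq, Finset.mul_sum]
  refine Finset.sum_congr rfl fun e he => ?_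
  have hed : e.degree = d := by
    rw [MvPolynomial.mem_restrictSupport_iff] at hP; exact hP he
  rw [← hed, Finsupp.degree_apply]
  simp only [mul_pow, Finset.prod_mul_distrib, Finset.prod_pow_eq_pow_sum]
  ring

theorem isLinearlyReductive_SLn [IsAlgClosed k] : HopfRep.IsLinearlyReductive k (SLn n k) := by
  let c : (Σ d : ℕ, (Fin d → Fin n) × (Fin d → Fin n)) → SLn n k := fun q =>
    powMat SLn.X 1 q.1 q.2.1 q.2.2
  refine isLinearlyReductive_of_span (c := c) ?_ fun q => ?_
  · rw [eq_top_iff]
    rintro y -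
    obtain ⟨y', rfl⟩ : ∃ y', SLn.mk n k y' = y := Ideal.Quotient.mk_surjective y
    obtain ⟨P, rfl⟩ : ∃ P, GLn.mk n k P = y' := Ideal.Quotient.mk_surjective y'
    let ψ : MvPolynomial (GLPoly.Idx n) k →ₐ[k] SLn n k := (SLn.mk n k).comp (GLn.mk n k)
    change ψ P ∈ Submodule.span k (Set.range c)
    induction (P : MvPolynomial (GLPoly.Idx n) k) using MvPolynomial.induction_on with
    | C r =>
      have : ψ (MvPolynomial.C r) = r • c ⟨0, Fin.elim0, Fin.elim0⟩ := by
        rw [← MvPolynomial.algebraMap_eq, AlgHom.commutes, Algebra.algebraMap_eq_smul_one]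
        simp [c, powMat]
      rw [this]
      exact Submodule.smul_mem _ r (Submodule.subset_span ⟨_, rfl⟩)
    | add p q hp hq => rw [map_add]; exact add_mem hp hq
    | mul_X p i hp =>
      rw [map_mul]
      refine span_closed c _ ?_ hp
      rcases i with ⟨i, j⟩ | _
      · rintro ⟨d, I, J⟩
        refine ⟨⟨d + 1, Fin.cons i I, Fin.cons j J⟩, ?_⟩
        change powMat SLn.X _ (d + 1) _ _ = powMat SLn.X _ d I J * SLn.X i j
        simp only [powMat, Fin.prod_univ_succ, Fin.cons_zero, Fin.cons_succ]
        ring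
      · intro q
        refine ⟨q, ?_⟩
        change c q = c q * SLn.mk n k GLn.Dinv
        rw [slMk_Dinv, mul_one]
  · obtain ⟨d, I, J⟩ := q
    refine exists_semisimple_mem isMat_slnX ⟨Bialgebra.counit_one, Bialgebra.comul_one⟩ d ?_ I J
    refine linearIndependent_monoEval _ _ isUnit_one {e | e.degree = d} fun P hP0 hP => ?_
    refine eq_zero_of_eval fun A hA => ?_
    rcases Nat.eq_zero_or_pos n with rfl | hn
    · exact eval_eq_of_point (slPt A (Matrix.det_fin_zero)) _ A (slPt_X A _) hP
    · obtain ⟨c, hc⟩ := IsAlgClosed.exists_pow_nat_eq (k := k) A.det⁻¹ hn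
      have hc0 : c ≠ 0 := fun h => inv_ne_zero hA (by rw [← hc, h, zero_pow hn.ne'])
      have hdet : (c • A).det = 1 := by
        rw [Matrix.det_smul, Fintype.card_fin, hc, inv_mul_cancel₀ hA]
      have := eval_eq_of_point (slPt (c • A) hdet) _ (c • A) (slPt_X _ hdet) hP
      simp only [Matrix.smul_apply, smul_eq_mul] at this
      rw [eval_smul_of_restrict hP0] at this
      exact (mul_eq_zero.mp this).resolve_left (pow_ne_zero _ hc0)

end Groups

end Groth.Agent.InvQLib.GLnRed
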