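import Mathlib
import Groth.Agent.InvQLib.Basic
import Groth.Agent.Comod.Integral
import Groth.Agent.VarDim.Algebra

/-!
# Orbits: dimension of orbit closures, finite stabilisers, openness in the closure
-/

set_option autoImplicit false

universe u

noncomputable section

open TensorProduct HopfRep WithConv

namespace Groth.Agent.InvQLib

variable {k : Type u} [Field k] [IsAlgClosed k] {A : Type u} [CommRing A] [HopfAlgebra k A] [Algebra.FiniteType k A]
  {R : Type u} [CommRing R] [Algebra k R] [HopfRep.Comod k A R] [GLin.IsCoactAlg k A R] [Algebra.FiniteType k R]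

/-- Product of points of the group. -/
def pmul (g h : A →ₐ[k] k) : A →ₐ[k] k := (toConv g * toConv h).ofConv

/-- Inverse of a point of the group. -/
def pinv (g : A →ₐ[k] k) : A →ₐ[k] k := g.comp (HopfAlgebra.antipodeAlgHom k A)

omit [IsAlgClosed k] [Algebra.FiniteType k A] in
theorem pmul_pinv_cancel (g h : A →ₐ[k] k) : pmul (pmul g (pinv h)) h = g := by
  unfold pmul pinv
  rw [toConv_ofConv, mul_assoc, Comod.antipode_comp_conv, mul_one]

omit [IsAlgClosed k] [Algebra.FiniteType k A] in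
theorem pmul_pinv_self (g : A →ₐ[k] k) : pmul g (pinv g) = Bialgebra.counitAlgHom k A := by
  unfold pmul pinv
  rw [Comod.conv_comp_antipode]
  ext a
  simp

omit [IsAlgClosed k] [Algebra.FiniteType k A] [Algebra.FiniteType k R] in
theorem act_act (g h : A →ₐ[k] k) (f : R) :
    HopfRep.Comod.act k A R g (HopfRep.Comod.act k A R h f) = HopfRep.Comod.act k A R (pmul g h) f := by
  rw [act_eq_contract, act_eq_contract, act_eq_contract, Comod.contract_contract]
  congr 1

/-- The point `x` moved by `g`. -/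
def move (g : A →ₐ[k] k) (x : R →ₐ[k] k) : R →ₐ[k] k := g.comp (GLin.orbitHom k A x)

omit [IsAlgClosed k] [Algebra.FiniteType k A] [Algebra.FiniteType k R] in
theorem move_apply (g : A →ₐ[k] k) (x : R →ₐ[k] k) (f : R) :
    move g x f = x (HopfRep.Comod.act k A R g f) := (point_act x g f).symm

omit [IsAlgClosed k] [Algebra.FiniteType k A] [Algebra.FiniteType k R] in
theorem move_move (g h : A →ₐ[k] k) (x : R →ₐ[k] k) : move g (move h x) = move (pmul h g) x := by
  ext f
  rw [move_apply, move_apply, move_apply, act_act]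

omit [IsAlgClosed k] [Algebra.FiniteType k A] [Algebra.FiniteType k R] in
theorem move_counit (x : R →ₐ[k] k) : move (Bialgebra.counitAlgHom k A) x = x :=
  AlgHom.ext fun f => counit_orbitHom x f

omit [IsAlgClosed k] [Algebra.FiniteType k A] [Algebra.FiniteType k R] in
theorem orbitIdeal_le_move (g : A →ₐ[k] k) (x : R →ₐ[k] k) : orbitIdeal k A x ≤ RingHom.ker (move g x) := by
  refine (Ideal.IsPrime.radical_le_iff (RingHom.ker_isPrime _)).2 fun f hf => ?_
  rw [RingHom.mem_ker] at hf ⊢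
  change g (GLin.orbitHom k A x f) = 0
  rw [hf, map_zero]

omit [Algebra.FiniteType k R] in
theorem orbitIdeal_le_of_le_ker {x z : R →ₐ[k] k} (h : orbitIdeal k A x ≤ RingHom.ker z) :
    orbitIdeal k A x ≤ orbitIdeal k A z := by
  intro f hf
  rw [mem_orbitIdeal_iff] at hf ⊢
  intro g
  have : HopfRep.Comod.act k A R g f ∈ orbitIdeal k A x := by
    rw [mem_orbitIdeal_iff]
    intro g'
    rw [act_act]
    exact hf _
  exact h this

omit [Algebra.FiniteType k R] in
theorem orbitIdeal_move (g : A →ₐ[k] k) (x : R →ₐ[k] k) : orbitIdeal k A (move g x) = orbitIdeal k A x := by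
  refine le_antisymm ?_ (orbitIdeal_le_of_le_ker (orbitIdeal_le_move g x))
  have h := orbitIdeal_le_of_le_ker (orbitIdeal_le_move (pinv g) (move g x))
  rwa [move_move, pmul_pinv_self, move_counit] at h

/-- The stabiliser of a point. -/
def stab (x : R →ₐ[k] k) : Set (A →ₐ[k] k) := {g | ∀ f : R, x (HopfRep.Comod.act k A R g f) = x f}

theorem finite_maximal_of_finite_points {E : Type u} [CommRing E] [Algebra k E] [Algebra.FiniteType k E]
    (h : Finite (E →ₐ[k] k)) : {M : Ideal E | M.IsMaximal}.Finite := by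
  refine (Set.finite_range fun g : E →ₐ[k] k => RingHom.ker g).subset fun M hM => ?_
  obtain ⟨g, hg⟩ := exists_point (k := k) (I := M) hM.ne_top
  exact ⟨g, (hM.eq_of_le (RingHom.ker_ne_top g) fun f hf => hg f hf).symm⟩

theorem krullDimLE_zero_of_finite_maximal {E : Type u} [CommRing E] [IsJacobsonRing E]
    (h : {M : Ideal E | M.IsMaximal}.Finite) : Ring.KrullDimLE 0 E := by
  classical
  refine Ring.KrullDimLE.mk₀ fun P hP => ?_
  obtain ⟨s, hs, hsP⟩ : ∃ s : Finset (Ideal E), (∀ M ∈ s, M.IsMaximal) ∧ s.inf id ≤ P := by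
    refine ⟨h.toFinset.filter (P ≤ ·), fun M hM => by simpa using (Finset.mem_filter.1 hM).1, fun f hf => ?_⟩
    rw [← hP.radical, Ideal.radical_eq_jacobson, Ideal.jacobson, Ideal.mem_sInf]
    rintro M ⟨hPM, hM⟩
    exact (Finset.inf_le (f := id) (Finset.mem_filter.2 ⟨h.mem_toFinset.2 hM, hPM⟩) : _ ≤ M) hf
  obtain ⟨M, hM, hMP⟩ := (Ideal.IsPrime.inf_le' hP).1 hsP
  exact ((hs M hM).eq_of_le hP.ne_top hMP) ▸ hs M hM

theorem exists_natDim (D : Type u) [CommRing D] [IsDomain D] [Algebra k D] [Algebra.FiniteType k D] :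
    ∃ n : ℕ, ringKrullDim D = n :=
  let ⟨n, hn, _⟩ := VarDim.exists_ringKrullDim_eq_trdeg k D
  ⟨n, hn⟩

/-- Finite stabiliser: the orbit map is dimension preserving on every component. -/
theorem dim_le_of_finite_stab (x : R →ₐ[k] k) (hfin : (stab (A := A) x).Finite) (P : Ideal A) [P.IsPrime] :
    ringKrullDim (A ⧸ P) ≤ ringKrullDim (R ⧸ P.comap (GLin.orbitHom k A x)) := by
  set p := P.comap (GLin.orbitHom k A x)
  let φ : R ⧸ p →ₐ[k] A ⧸ P := Ideal.quotientMapₐ P (GLin.orbitHom k A x) le_rfl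
  algebraize [φ.toRingHom]
  have : Algebra.FiniteType k (A ⧸ P) := VarDim.finiteType_quotient k A P
  have : Algebra.FiniteType k (R ⧸ p) := VarDim.finiteType_quotient k R p
  have : IsNoetherianRing (A ⧸ P) := Algebra.FiniteType.isNoetherianRing k _
  have : IsNoetherianRing (R ⧸ p) := Algebra.FiniteType.isNoetherianRing k _
  obtain ⟨M, hM⟩ := Ideal.exists_maximal (A ⧸ P)
  set n := M.comap φ.toRingHom with hn
  have : n.IsPrime := Ideal.comap_isPrime _ M
  have : M.LiesOver n := ⟨rfl⟩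
  have h1 := Ideal.height_le_height_add_of_liesOver n M
  have hz : Ring.KrullDimLE 0 ((A ⧸ P) ⧸ n.map (algebraMap (R ⧸ p) (A ⧸ P))) := by
    have : IsJacobsonRing ((A ⧸ P) ⧸ n.map (algebraMap (R ⧸ p) (A ⧸ P))) :=
      isJacobsonRing_of_finiteType (A := k) (B := (A ⧸ P) ⧸ n.map (algebraMap (R ⧸ p) (A ⧸ P)))
    refine krullDimLE_zero_of_finite_maximal (finite_maximal_of_finite_points (k := k) ?_)
    obtain ⟨g, hg⟩ := exists_point (k := k) (I := M) hM.ne_top
    let pr : A →ₐ[k] (A ⧸ P) ⧸ n.map (algebraMap (R ⧸ p) (A ⧸ P)) :=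
      (Ideal.Quotient.mkₐ k _).comp (Ideal.Quotient.mkₐ k P)
    let g0 : A →ₐ[k] k := g.comp (Ideal.Quotient.mkₐ k P)
    have hkey : ∀ h : (A ⧸ P) ⧸ n.map (algebraMap (R ⧸ p) (A ⧸ P)) →ₐ[k] k,
        pmul (h.comp pr) (pinv g0) ∈ stab x := by
      intro h
      have heq : move (h.comp pr) x = move g0 x := by
        refine AlgHom.ext fun r => ?_
        set c := g0 (GLin.orbitHom k A x r) with hc
        have hmem : Ideal.Quotient.mk p (r - algebraMap k R c) ∈ n := by
          have hker : RingHom.ker g = M := (hM.eq_of_le (RingHom.ker_ne_top g) fun f hf => hg f hf).symm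
          rw [hn, Ideal.mem_comap, ← hker, RingHom.mem_ker]
          change g (Ideal.Quotient.mk P (GLin.orbitHom k A x (r - algebraMap k R c))) = 0
          change g0 _ = 0
          rw [map_sub, AlgHom.commutes, map_sub, AlgHom.commutes, ← hc]
          simp
        have h0 := Ideal.Quotient.eq_zero_iff_mem.2 (Ideal.mem_map_of_mem (algebraMap (R ⧸ p) (A ⧸ P)) hmem)
        have h2 := congrArg h h0
        rw [map_zero] at h2
        change h (pr (GLin.orbitHom k A x (r - algebraMap k R c))) = 0 at h2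
        rw [map_sub, AlgHom.commutes, map_sub, AlgHom.commutes, map_sub, AlgHom.commutes, sub_eq_zero] at h2
        exact h2
      intro f
      rw [← move_apply, ← move_move, heq, move_move, pmul_pinv_self, move_counit]
    have hinj : Function.Injective fun h : (A ⧸ P) ⧸ n.map (algebraMap (R ⧸ p) (A ⧸ P)) →ₐ[k] k =>
        (⟨_, hkey h⟩ : stab (A := A) x) := by
      intro h h' hh
      have hh' := congrArg (fun t : stab (A := A) x => pmul t.1 g0) hh
      simp only [pmul_pinv_cancel] at hh'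
      refine AlgHom.ext fun z => ?_
      obtain ⟨z, rfl⟩ := Ideal.Quotient.mk_surjective z
      obtain ⟨z, rfl⟩ := Ideal.Quotient.mk_surjective z
      exact DFunLike.congr_fun hh' z
    have := hfin.to_subtype
    exact Finite.of_injective _ hinj
  have h0 : (M.map (Ideal.Quotient.mk (n.map (algebraMap (R ⧸ p) (A ⧸ P))))).height = 0 := by
    have hle : n.map (algebraMap (R ⧸ p) (A ⧸ P)) ≤ M := Ideal.map_le_iff_le_comap.2 le_rfl
    have : (M.map (Ideal.Quotient.mk (n.map (algebraMap (R ⧸ p) (A ⧸ P))))).IsPrime :=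
      Ideal.isPrime_map_quotientMk_of_isPrime hle
    exact Ideal.height_eq_zero_iff.2 (Ring.KrullDimLE.minimalPrimes_eq_setOfPred_isPrime
      ((A ⧸ P) ⧸ n.map (algebraMap (R ⧸ p) (A ⧸ P))) ▸ this)
  rw [h0, add_zero] at h1
  rw [← VarDim.height_eq_ringKrullDim_of_isMaximal k (A ⧸ P) M]
  exact (WithBot.coe_le_coe.2 h1).trans (Ideal.height_le_ringKrullDim_of_ne_top (Ideal.IsPrime.ne_top inferInstance))

theorem orbitIdeal_le_comap (x : R →ₐ[k] k) (P : Ideal A) [P.IsPrime] :
    orbitIdeal k A x ≤ P.comap (GLin.orbitHom k A x) :=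
  (Ideal.IsPrime.radical_le_iff inferInstance).2 fun f hf => by
    rw [Ideal.mem_comap, show GLin.orbitHom k A x f = 0 from hf]; exact P.zero_mem

omit [IsAlgClosed k] [Algebra.FiniteType k A] [Algebra.FiniteType k R] in
theorem exists_prime_over {x : R →ₐ[k] k} {q : Ideal R} (hq : q ∈ (orbitIdeal k A x).minimalPrimes) :
    ∃ P : Ideal A, P.IsPrime ∧ P.comap (GLin.orbitHom k A x) = q := by
  rw [orbitIdeal, Ideal.radical_minimalPrimes] at hq
  obtain ⟨P, hP, hPq⟩ := Ideal.exists_comap_eq_of_mem_minimalPrimes (GLin.orbitHom k A x).toRingHom (I := ⊥) q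
    (by rw [← RingHom.ker_eq_comap_bot]; exact hq)
  exact ⟨P, hP, hPq.2⟩

/-- A point of an orbit avoiding all components of the closure but the given one. -/
theorem exists_move_mem (y : R →ₐ[k] k) {q : Ideal R} (hq : q ∈ (orbitIdeal k A y).minimalPrimes) (f0 : R)
    (hf0 : f0 ∉ q) :
    ∃ g : A →ₐ[k] k, q ≤ RingHom.ker (move g y) ∧ move g y f0 ≠ 0 := by
  classical
  have : IsNoetherianRing R := Algebra.FiniteType.isNoetherianRing k R
  have hfin := Ideal.finite_minimalPrimes_of_isNoetherianRing R (orbitIdeal k A y)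
  let others := hfin.toFinset.erase q
  obtain ⟨f, hf, hfq⟩ : ∃ f ∈ others.inf id, f ∉ q := by
    refine Set.not_subset.1 fun hle => ?_
    obtain ⟨Q, hQ, hQq⟩ := (Ideal.IsPrime.inf_le' hq.1.1).1 hle
    have hQm := hfin.mem_toFinset.1 (Finset.mem_erase.1 hQ).2
    exact (Finset.mem_erase.1 hQ).1 (le_antisymm hQq (hq.2 hQm.1 hQq))
  have hff : f * f0 ∉ q := fun h => (hq.1.1.mem_or_mem h).elim hfq hf0
  obtain ⟨g, hg⟩ : ∃ g : A →ₐ[k] k, move g y (f * f0) ≠ 0 := by
    by_contra hc
    push Not at hc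
    exact hff (hq.1.2 (mem_orbitIdeal_iff.2 fun g => by rw [← move_apply]; exact hc g))
  rw [map_mul] at hg
  refine ⟨g, ?_, right_ne_zero_of_mul hg⟩
  have := RingHom.ker_isPrime (move g y)
  obtain ⟨Q, hQ, hQle⟩ := Ideal.exists_minimalPrimes_le (I := orbitIdeal k A y) (J := RingHom.ker (move g y))
    (orbitIdeal_le_move g y)
  by_cases hQq : Q = q
  · exact hQq ▸ hQle
  · exact absurd (hQle ((Finset.inf_le (f := id) (Finset.mem_erase.2 ⟨hQq, hfin.mem_toFinset.2 hQ⟩) :
      _ ≤ Q) hf)) (left_ne_zero_of_mul hg)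

/-- An orbit closure inside another one, the smaller having finite stabilisers, reaches the bigger orbit. -/
theorem exists_move_le (x y : R →ₐ[k] k) (hfin : (stab (A := A) x).Finite)
    (h : orbitIdeal k A y ≤ orbitIdeal k A x) : ∃ g : A →ₐ[k] k, orbitIdeal k A x ≤ RingHom.ker (move g y) := by
  classical
  have : IsNoetherianRing A := Algebra.FiniteType.isNoetherianRing k A
  have hfinA := minimalPrimes.finite_of_isNoetherianRing A
  have hne : (minimalPrimes A).Nonempty := by
    obtain ⟨P, hP⟩ := Ideal.nonempty_minimalPrimes (I := (⊥ : Ideal A)) (fun h => by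
      have : (Bialgebra.counitAlgHom k A) 1 = 1 := map_one _
      have h1 : (1 : A) = 0 := by rw [← Ideal.mem_bot, h]; trivial
      rw [h1, map_zero] at this; exact zero_ne_one this)
    exact ⟨P, hP⟩
  obtain ⟨P, hPm, hmax⟩ := hfinA.exists_maximalFor (fun P : Ideal A => ringKrullDim (A ⧸ P)) _ hne
  have hPp : P.IsPrime := hPm.1.1
  set p := P.comap (GLin.orbitHom k A x)
  obtain ⟨q, hq, hqp⟩ := Ideal.exists_minimalPrimes_le (I := orbitIdeal k A y) (J := p)
    (h.trans (orbitIdeal_le_comap x P))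
  have hqp' := hq.1.1
  suffices hpq : q = p by
    obtain ⟨g, hg, -⟩ := exists_move_mem y hq 1 (fun h1 => hqp'.ne_top ((Ideal.eq_top_iff_one _).2 h1))
    rw [hpq] at hg
    exact ⟨g, (orbitIdeal_le_comap x P).trans hg⟩
  obtain ⟨P', hP', hP'q⟩ := exists_prime_over hq
  have hd1 : ringKrullDim (R ⧸ q) ≤ ringKrullDim (A ⧸ P') := by
    have := VarDim.finiteType_quotient k R q
    have := VarDim.finiteType_quotient k A P'
    let φ : R ⧸ q →ₐ[k] A ⧸ P' := Ideal.quotientMapₐ P' (GLin.orbitHom k A y) hP'q.ge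
    have hinj : Function.Injective φ := by
      apply Ideal.quotientMap_injective'
      all_goals first | exact hP'q.ge | exact hP'q.le
    obtain ⟨a, ha, ha', -⟩ := VarDim.exists_ringKrullDim_eq_trdeg k (R ⧸ q)
    obtain ⟨b, hb, hb', -⟩ := VarDim.exists_ringKrullDim_eq_trdeg k (A ⧸ P')
    have hle := trdeg_le_of_injective φ hinj
    rw [ha', hb', Nat.cast_le] at hle
    rw [ha, hb]; exact_mod_cast hle
  obtain ⟨P'', hP'', hP''le⟩ := Ideal.exists_minimalPrimes_le (I := (⊥ : Ideal A)) (J := P') bot_le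
  have hd2 : ringKrullDim (R ⧸ q) ≤ ringKrullDim (R ⧸ p) := by
    refine hd1.trans ((ringKrullDim_le_of_surjective (Ideal.Quotient.factor hP''le)
      (Ideal.Quotient.factor_surjective hP''le)).trans ?_)
    refine le_trans ?_ (dim_le_of_finite_stab x hfin P)
    rcases le_total (ringKrullDim (A ⧸ P'')) (ringKrullDim (A ⧸ P)) with hle | hle
    · exact hle
    · exact hmax hP'' hle
  have := VarDim.finiteType_quotient k R q
  have hpm : (p.map (Ideal.Quotient.mk q)).IsPrime := Ideal.isPrime_map_quotientMk_of_isPrime hqp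
  have hsum := VarDim.ringKrullDim_quotient_add_height k (R ⧸ q) (p.map (Ideal.Quotient.mk q))
  rw [ringKrullDim_eq_of_ringEquiv (DoubleQuot.quotQuotEquivQuotOfLE hqp)] at hsum
  obtain ⟨a, ha⟩ := exists_natDim (k := k) (R ⧸ q)
  have := VarDim.finiteType_quotient k R p
  obtain ⟨b, hb⟩ := exists_natDim (k := k) (R ⧸ p)
  rw [ha, hb] at hd2
  rw [ha, hb] at hsum
  have hab : a ≤ b := by exact_mod_cast hd2
  have hs : (b : ℕ∞) + (p.map (Ideal.Quotient.mk q)).height = a := by exact_mod_cast hsum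
  obtain ⟨c, hc⟩ := ENat.ne_top_iff_exists.1 (show (p.map (Ideal.Quotient.mk q)).height ≠ ⊤ by
    intro ht; rw [ht] at hs; simp at hs)
  rw [← hc] at hs
  have hc0 : c = 0 := by
    have : b + c = a := by exact_mod_cast hs
    omega
  rw [hc0, Nat.cast_zero, eq_comm, Ideal.height_eq_zero_iff, IsDomain.minimalPrimes_eq_singleton_bot,
    Set.mem_singleton_iff, Ideal.map_eq_bot_iff_le_ker, Ideal.mk_ker] at hc
  exact le_antisymm hqp hc

/-- The orbit contains an open piece of its closure. -/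
theorem exists_open_orbit (x : R →ₐ[k] k) :
    ∃ f : R, f ∉ orbitIdeal k A x ∧
      ∀ z : R →ₐ[k] k, orbitIdeal k A x ≤ RingHom.ker z → z f ≠ 0 → ∃ g : A →ₐ[k] k, z = move g x := by
  classical
  have : IsNoetherianRing R := Algebra.FiniteType.isNoetherianRing k R
  have hne : orbitIdeal k A x ≠ ⊤ := fun h => by
    have := orbitIdeal_le_move (Bialgebra.counitAlgHom k A) x
    rw [h, top_le_iff] at this
    exact RingHom.ker_ne_top _ this
  obtain ⟨q, hq⟩ := Ideal.nonempty_minimalPrimes hne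
  have hfin := Ideal.finite_minimalPrimes_of_isNoetherianRing R (orbitIdeal k A x)
  have hqp := hq.1.1
  obtain ⟨P, hP, hPq⟩ := exists_prime_over hq
  obtain ⟨f1, hf1, hf1q⟩ : ∃ f ∈ (hfin.toFinset.erase q).inf id, f ∉ q := by
    refine Set.not_subset.1 fun hle => ?_
    obtain ⟨Q, hQ, hQq⟩ := (Ideal.IsPrime.inf_le' hqp).1 hle
    have hQm := hfin.mem_toFinset.1 (Finset.mem_erase.1 hQ).2
    exact (Finset.mem_erase.1 hQ).1 (le_antisymm hQq (hq.2 hQm.1 hQq))
  let o := GLin.orbitHom k A x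
  have hC := PrimeSpectrum.isConstructible_comap_image
    (f := o.toRingHom) (RingHom.FinitePresentation.of_finiteType.mp
      (RingHom.FiniteType.of_comp_finiteType (f := algebraMap k R) (g := o.toRingHom)
        (by
          have : (algebraMap k A).FiniteType := RingHom.finiteType_algebraMap.2 inferInstance
          convert this using 1
          exact o.comp_algebraMap)))
    Topology.IsConstructible.univ
  obtain ⟨S, hS⟩ := PrimeSpectrum.exists_constructibleSetData_iff.2 hC
  have hqmem : (⟨q, hqp⟩ : PrimeSpectrum R) ∈ S.toSet := by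
    rw [hS]; exact ⟨⟨P, hP⟩, trivial, PrimeSpectrum.ext hPq⟩
  simp only [PrimeSpectrum.ConstructibleSetData.toSet, Set.mem_iUnion] at hqmem
  obtain ⟨C, hC', hqC⟩ := hqmem
  simp only [PrimeSpectrum.BasicConstructibleSetData.toSet, Set.mem_sdiff, PrimeSpectrum.mem_zeroLocus,
    Set.singleton_subset_iff, SetLike.mem_coe] at hqC
  refine ⟨f1 * C.f, fun h => (hqp.mem_or_mem (hq.1.2 h)).elim hf1q hqC.2, fun z hz hzf => ?_⟩
  rw [map_mul] at hzf
  have := RingHom.ker_isPrime z
  obtain ⟨Q, hQ, hQle⟩ := Ideal.exists_minimalPrimes_le (I := orbitIdeal k A x) (J := RingHom.ker z) hz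
  have hQq : Q = q := by
    by_contra hQq
    exact absurd (hQle ((Finset.inf_le (f := id) (Finset.mem_erase.2 ⟨hQq, hfin.mem_toFinset.2 hQ⟩) :
      _ ≤ Q) hf1)) (left_ne_zero_of_mul hzf)
  have hzmem : (⟨RingHom.ker z, RingHom.ker_isPrime z⟩ : PrimeSpectrum R) ∈ S.toSet := by
    simp only [PrimeSpectrum.ConstructibleSetData.toSet, Set.mem_iUnion]
    refine ⟨C, hC', ?_⟩
    simp only [PrimeSpectrum.BasicConstructibleSetData.toSet, Set.mem_sdiff, PrimeSpectrum.mem_zeroLocus,
      Set.singleton_subset_iff, SetLike.mem_coe]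
    exact ⟨fun r hr => (hQq ▸ hQle) (hqC.1 hr), right_ne_zero_of_mul hzf⟩
  rw [hS] at hzmem
  obtain ⟨P', -, hP'⟩ := hzmem
  obtain ⟨g, hg⟩ := exists_point (k := k) (I := P'.asIdeal) P'.isPrime.ne_top
  refine ⟨g, AlgHom.ext fun r => ?_⟩
  have hker : r - algebraMap k R (z r) ∈ RingHom.ker z := by simp [RingHom.mem_ker]
  have h2 : o (r - algebraMap k R (z r)) ∈ P'.asIdeal := by
    have := congrArg PrimeSpectrum.asIdeal hP'
    change P'.asIdeal.comap o.toRingHom = RingHom.ker z at this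
    rw [← this] at hker
    exact hker
  have := hg _ h2
  rw [map_sub, AlgHom.commutes, map_sub, AlgHom.commutes, sub_eq_zero] at this
  exact this.symm

/-- Points with the same orbit closure lie in the same orbit. -/
theorem exists_move_eq {x z : R →ₐ[k] k} (h : orbitIdeal k A x = orbitIdeal k A z) :
    ∃ g : A →ₐ[k] k, z = move g x := by
  obtain ⟨f, hf, hforall⟩ := exists_open_orbit (A := A) x
  rw [h] at hf
  obtain ⟨g, hg⟩ : ∃ g : A →ₐ[k] k, move g z f ≠ 0 := by
    by_contra hc
    push Not at hc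
    exact hf (mem_orbitIdeal_iff.2 fun g => by rw [← move_apply]; exact hc g)
  obtain ⟨g', hg'⟩ := hforall (move g z) (h ▸ orbitIdeal_le_move g z) hg
  refine ⟨pmul g' (pinv g), ?_⟩
  rw [← move_move, ← hg', move_move, pmul_pinv_self, move_counit]

omit [IsAlgClosed k] [Algebra.FiniteType k A] [Algebra.FiniteType k R] in
theorem finite_stab_move {x : R →ₐ[k] k} (g : A →ₐ[k] k) (h : (stab (A := A) x).Finite) :
    (stab (A := A) (move g x)).Finite := by
  have hkey : ∀ s ∈ stab (A := A) (move g x), pmul (pmul g s) (pinv g) ∈ stab (A := A) x := by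
    intro s hs f
    have hsf : move s (move g x) = move g x := AlgHom.ext fun f => by rw [move_apply]; exact hs f
    rw [← move_apply, ← move_move, ← move_move, hsf, move_move, pmul_pinv_self, move_counit]
  refine (h.image fun t => pmul (pinv g) (pmul t g)).subset fun s hs => ⟨_, hkey s hs, ?_⟩
  simp only [pmul_pinv_cancel]
  unfold pmul pinv
  rw [toConv_ofConv, ← mul_assoc, Comod.antipode_comp_conv, one_mul]

theorem mem_orbit_of_le {x y : R →ₐ[k] k}
    (hclosed : ∀ z : R →ₐ[k] k, orbitIdeal k A x ≤ RingHom.ker z → ∃ g : A →ₐ[k] k, z = move g x)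
    (hfin : (stab (A := A) x).Finite) (h : orbitIdeal k A y ≤ orbitIdeal k A x) :
    ∃ g : A →ₐ[k] k, y = move g x := by
  obtain ⟨g, hg⟩ := exists_move_le x y hfin h
  obtain ⟨g', hg'⟩ := hclosed _ hg
  refine ⟨pmul g' (pinv g), ?_⟩
  rw [← move_move, ← hg', move_move, pmul_pinv_self, move_counit]

omit [IsAlgClosed k] [Algebra.FiniteType k A] [Algebra.FiniteType k R] in
theorem eq_move_iff {x z : R →ₐ[k] k} {g : A →ₐ[k] k} :
    z = move g x ↔ ∀ f : R, z f = x (HopfRep.Comod.act k A R g f) :=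
  ⟨fun h f => h ▸ move_apply g x f, fun h => AlgHom.ext fun f => (h f).trans (move_apply g x f).symm⟩

variable (A) in
/-- The orbit of `x` is closed. -/
def IsClosedOrbit (x : R →ₐ[k] k) : Prop :=
  ∀ z : R →ₐ[k] k, orbitIdeal k A x ≤ RingHom.ker z → ∃ g : A →ₐ[k] k, z = move g x

omit [Algebra.FiniteType k R] in
theorem isClosedOrbit_iff (x : R →ₐ[k] k) : IsClosedOrbit A x ↔
    ∀ z : R →ₐ[k] k, (∀ f : R, (∀ g : A →ₐ[k] k, x (HopfRep.Comod.act k A R g f) = 0) → z f = 0) →
      ∃ g : A →ₐ[k] k, ∀ f : R, z f = x (HopfRep.Comod.act k A R g f) := by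
  simp only [IsClosedOrbit, eq_move_iff, forall_orbit_iff]

end Groth.Agent.InvQLib
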