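import Mathlib
import Groth.Agent.Comod.Integral
import Groth.Agent.GrpdLib.Norm

/-!
# Actions of finite group schemes on affine schemes: norms, integrality, fibres are orbits
-/

set_option autoImplicit false

universe u

noncomputable section

open TensorProduct WithConv Polynomial

namespace Groth.Agent.InvQLib.FinHopf

variable {k : Type u} [Field k] {H : Type u} [CommRing H] [HopfAlgebra k H]

section Cp

variable [Module.Finite k H]

variable (H) in
/-- The basis of `S ⊗ H` over `S`. -/
def bas (S : Type u) [CommRing S] [Algebra k S] : Module.Basis (Fin (Module.finrank k H)) S (S ⊗[k] H) :=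
  Algebra.TensorProduct.basis S (Module.finBasis k H)

/-- The characteristic polynomial of an element of `S ⊗ H` over `S`. -/
def cp {S : Type u} [CommRing S] [Algebra k S] (x : S ⊗[k] H) : S[X] :=
  (Algebra.leftMulMatrix (bas H S) x).charpoly

theorem cp_map {S S' : Type u} [CommRing S] [Algebra k S] [CommRing S'] [Algebra k S'] (φ : S →ₐ[k] S')
    (x : S ⊗[k] H) : cp (Algebra.TensorProduct.map φ (AlgHom.id k H) x) = (cp x).map φ.toRingHom := by
  unfold cp
  rw [← Matrix.charpoly_map]
  congr 1
  ext i j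
  rw [Matrix.map_apply, Algebra.leftMulMatrix_eq_repr_mul, Algebra.leftMulMatrix_eq_repr_mul,
    bas, bas, Algebra.TensorProduct.basis_apply, Algebra.TensorProduct.basis_apply]
  have h1 : (1 : S') ⊗ₜ[k] Module.finBasis k H j =
      Algebra.TensorProduct.map φ (AlgHom.id k H) ((1 : S) ⊗ₜ[k] Module.finBasis k H j) := by simp
  rw [h1, ← map_mul]
  generalize x * (1 : S) ⊗ₜ[k] Module.finBasis k H j = z
  induction z using TensorProduct.induction_on with
  | zero => simp
  | tmul a b => simp [Algebra.TensorProduct.basis_repr_tmul]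
  | add a b ha hb => simp only [map_add, Finsupp.add_apply, ha, hb]

theorem cp_algEquiv {S : Type u} [CommRing S] [Algebra k S] (θ : S ⊗[k] H ≃ₐ[S] S ⊗[k] H) (x : S ⊗[k] H) :
    cp (θ x) = cp x := by
  have : Module.Finite S (S ⊗[k] H) := Module.Finite.of_basis (bas H S)
  have : Module.Free S (S ⊗[k] H) := Module.Free.of_basis (bas H S)
  have h : Algebra.lmul S (S ⊗[k] H) (θ x) = θ.toLinearEquiv.conj (Algebra.lmul S (S ⊗[k] H) x) := by
    refine LinearMap.ext fun z => ?_
    simp [LinearEquiv.conj_apply_apply]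
  unfold cp
  rw [Algebra.leftMulMatrix_apply, Algebra.leftMulMatrix_apply, LinearMap.charpoly_toMatrix,
    LinearMap.charpoly_toMatrix, h, LinearEquiv.charpoly_conj]

theorem monic_cp {S : Type u} [CommRing S] [Algebra k S] (x : S ⊗[k] H) : (cp x).Monic :=
  Matrix.charpoly_monic _

theorem aeval_cp {S : Type u} [CommRing S] [Algebra k S] (x : S ⊗[k] H) : aeval x (cp x) = 0 := by
  refine Algebra.leftMulMatrix_injective (bas H S) ?_
  rw [← aeval_algHom_apply, map_zero]
  exact Matrix.aeval_self_charpoly _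

end Cp

variable {R : Type u} [CommRing R] [Algebra k R] [HopfRep.Comod k H R] [GLin.IsCoactAlg k H R]

theorem comp_conv {C C' : Type u} [CommRing C] [Algebra k C] [CommRing C'] [Algebra k C'] (θ : C →ₐ[k] C')
    (f g : H →ₐ[k] C) : θ.comp (toConv f * toConv g).ofConv = (toConv (θ.comp f) * toConv (θ.comp g)).ofConv := by
  refine AlgHom.ext fun a => ?_
  change θ ((toConv f * toConv g) a) = (toConv (θ.comp f) * toConv (θ.comp g)) a
  rw [AlgHom.convMul_apply, AlgHom.convMul_apply]
  induction Coalgebra.comul (R := k) a using TensorProduct.induction_on with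
  | zero => simp
  | tmul x y => simp
  | add x y hx hy => simp only [map_add, hx, hy]

variable (k H R) in
/-- The shear on `(R ⊗ H) ⊗ H` attached to a point `f` of `H`. -/
def shearOf (f : H →ₐ[k] R ⊗[k] H) : (R ⊗[k] H) ⊗[k] H →ₐ[R ⊗[k] H] (R ⊗[k] H) ⊗[k] H :=
  Algebra.TensorProduct.lift (Algebra.ofId _ _)
    (toConv ((Algebra.TensorProduct.includeLeft (S := k)).comp f) *
      toConv (Algebra.TensorProduct.includeRight : H →ₐ[k] (R ⊗[k] H) ⊗[k] H)).ofConv fun _ _ => .all _ _

theorem shearOf_left (f : H →ₐ[k] R ⊗[k] H) (z : R ⊗[k] H) :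
    shearOf k H R f (z ⊗ₜ[k] (1 : H)) = z ⊗ₜ[k] (1 : H) := by
  simp [shearOf, Algebra.ofId_apply]

theorem shearOf_shearOf (f g : H →ₐ[k] R ⊗[k] H) (hfg : toConv g * toConv f = 1) :
    (shearOf k H R f).comp (shearOf k H R g) = AlgHom.id _ _ := by
  refine Algebra.TensorProduct.ext (AlgHom.ext fun z => ?_) ?_
  · change shearOf k H R f (shearOf k H R g (z ⊗ₜ[k] (1 : H))) = z ⊗ₜ[k] (1 : H)
    rw [shearOf_left, shearOf_left]
  · have h1 : ∀ f' : H →ₐ[k] R ⊗[k] H, ((shearOf k H R f').restrictScalars k).comp
        Algebra.TensorProduct.includeRight =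
        (toConv ((Algebra.TensorProduct.includeLeft (S := k)).comp f') *
          toConv (Algebra.TensorProduct.includeRight : H →ₐ[k] (R ⊗[k] H) ⊗[k] H)).ofConv :=
      fun f' => AlgHom.ext fun a => by simp [shearOf]
    change (((shearOf k H R f).restrictScalars k).comp ((shearOf k H R g).restrictScalars k)).comp
      Algebra.TensorProduct.includeRight = Algebra.TensorProduct.includeRight
    rw [AlgHom.comp_assoc, h1, comp_conv, h1]
    have h2 : ((shearOf k H R f).restrictScalars k).comp
        ((Algebra.TensorProduct.includeLeft (S := k)).comp g) =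
        (Algebra.TensorProduct.includeLeft (S := k)).comp g := AlgHom.ext fun a => shearOf_left f _
    rw [h2]
    simp only [toConv_ofConv]
    refine (congrArg WithConv.ofConv (mul_assoc (G := WithConv (H →ₐ[k] (R ⊗[k] H) ⊗[k] H)) _ _ _).symm).trans ?_
    have h3 : toConv ((Algebra.TensorProduct.includeLeft (S := k) : R ⊗[k] H →ₐ[k] (R ⊗[k] H) ⊗[k] H).comp g) *
        toConv ((Algebra.TensorProduct.includeLeft (S := k)).comp f) = 1 := by
      apply WithConv.ofConv_injective
      rw [← comp_conv, hfg]
      ext a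
      simp [AlgHom.convOne_apply]
    erw [h3]
    exact congrArg WithConv.ofConv (one_mul (M := WithConv (H →ₐ[k] (R ⊗[k] H) ⊗[k] H)) _)

variable (k H R) in
/-- The translation automorphism of `(R ⊗ H) ⊗ H`. -/
def shear : (R ⊗[k] H) ⊗[k] H ≃ₐ[R ⊗[k] H] (R ⊗[k] H) ⊗[k] H :=
  AlgEquiv.ofAlgHom (shearOf k H R Algebra.TensorProduct.includeRight)
    (shearOf k H R ((Algebra.TensorProduct.includeRight).comp (HopfAlgebra.antipodeAlgHom k H)))
    (shearOf_shearOf _ _ (Comod.antipode_comp_conv _))
    (shearOf_shearOf _ _ (Comod.conv_comp_antipode _))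

theorem shear_map_coact (f : R) :
    shear k H R (Algebra.TensorProduct.map (Algebra.TensorProduct.includeLeft (S := k)) (AlgHom.id k H)
      (GLin.coactAlgHom k H R f)) =
      Algebra.TensorProduct.map (GLin.coactAlgHom k H R) (AlgHom.id k H) (GLin.coactAlgHom k H R f) := by
  have h1 : ∀ z : R ⊗[k] H, shear k H R
      (Algebra.TensorProduct.map (Algebra.TensorProduct.includeLeft (S := k)) (AlgHom.id k H) z) =
      (TensorProduct.assoc k R H H).symm ((CoalgebraStruct.comul (R := k) (A := H)).lTensor R z) := by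
    intro z
    induction z using TensorProduct.induction_on with
    | zero => simp
    | tmul r a =>
      simp only [shear, AlgEquiv.ofAlgHom_apply, shearOf, Algebra.TensorProduct.map_tmul,
        Algebra.TensorProduct.includeLeft_apply, AlgHom.coe_id, id_eq, Algebra.TensorProduct.lift_tmul,
        Algebra.ofId_apply, LinearMap.lTensor_tmul, AlgHom.convMul_apply]
      induction CoalgebraStruct.comul (R := k) (A := H) a using TensorProduct.induction_on with
      | zero => simp
      | tmul x y => simp
      | add x y hx hy => simp only [map_add, tmul_add, mul_add, hx, hy]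
    | add a b ha hb => simp only [map_add, ha, hb]
  rw [h1]
  have hc := LinearMap.congr_fun (HopfRep.Comod.coassoc (k := k) (A := H) (V := R)) f
  simp only [LinearMap.comp_apply, LinearEquiv.coe_coe] at hc
  rw [GLin.coactAlgHom_apply, ← hc, LinearEquiv.symm_apply_apply]
  induction HopfRep.Comod.coact (k := k) (A := H) f using TensorProduct.induction_on with
  | zero => simp
  | tmul r a => simp
  | add a b ha hb => simp only [map_add, ha, hb]

/-- The retraction `R ⊗ H → R` by the counit. -/
def aug : R ⊗[k] H →ₐ[R] R :=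
  Algebra.TensorProduct.lift (Algebra.ofId R R) ((Algebra.ofId k R).comp (Bialgebra.counitAlgHom k H))
    fun _ _ => .all _ _

theorem aug_coact (f : R) : aug (GLin.coactAlgHom k H R f) = f := by
  have h := Comod.contract_counit (k := k) (A := H) f
  rw [Comod.contract_apply] at h
  rw [GLin.coactAlgHom_apply]
  conv_rhs => rw [← h]
  induction HopfRep.Comod.coact (k := k) (A := H) f using TensorProduct.induction_on with
  | zero => simp
  | tmul a b => simp [aug, Comod.slice, Algebra.smul_def, mul_comm]
  | add a b ha hb => simp only [map_add, ha, hb]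

variable [Module.Finite k H]

/-- The characteristic polynomial of `f` for the action. -/
theorem coact_coeff_cp (f : R) (i : ℕ) :
    HopfRep.Comod.coact (k := k) (A := H) ((cp (GLin.coactAlgHom k H R f)).coeff i) =
      (cp (GLin.coactAlgHom k H R f)).coeff i ⊗ₜ[k] (1 : H) := by
  have h := cp_algEquiv (shear k H R)
    (Algebra.TensorProduct.map (Algebra.TensorProduct.includeLeft (S := k)) (AlgHom.id k H)
      (GLin.coactAlgHom k H R f))
  rw [shear_map_coact, cp_map, cp_map] at h
  have := congrArg (fun P => Polynomial.coeff P i) h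
  simpa using this

theorem aeval_self_cp (f : R) : aeval f (cp (GLin.coactAlgHom k H R f)) = 0 := by
  conv_lhs => arg 1; rw [← aug_coact (k := k) (H := H) f]
  rw [aeval_algHom_apply, aeval_cp, map_zero]

variable (A : Subalgebra k R) (hA : ∀ a : R, a ∈ A ↔ HopfRep.Comod.coact (k := k) (A := H) a = a ⊗ₜ[k] (1 : H))

include hA

theorem isIntegral : Algebra.IsIntegral A R := by
  refine ⟨fun f => ?_⟩
  nontriviality R
  obtain ⟨q, hq, -, hqm⟩ := lifts_and_degree_eq_and_monic (f := algebraMap A R)
    ((lifts_iff_coeff_lifts _).2 fun n => ⟨⟨_, (hA _).2 (coact_coeff_cp f n)⟩, rfl⟩)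
    (monic_cp (GLin.coactAlgHom k H R f))
  refine ⟨q, hqm, ?_⟩
  rw [eval₂_eq_eval_map, hq, ← coe_aeval_eq_eval]
  exact aeval_self_cp f

theorem moduleFinite [Algebra.FiniteType k R] : Module.Finite A R :=
  have := isIntegral A hA
  have : Algebra.FiniteType A R := Algebra.FiniteType.of_restrictScalars_finiteType k A R
  Algebra.IsIntegral.finite

theorem finiteType [Algebra.FiniteType k R] : Algebra.FiniteType k A := by
  have := moduleFinite A hA
  exact ⟨fg_of_fg_of_fg k A R ‹Algebra.FiniteType k R›.out this.1 Subtype.val_injective⟩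

theorem isNoetherianRing [Algebra.FiniteType k R] : IsNoetherianRing A :=
  have := finiteType A hA
  Algebra.FiniteType.isNoetherianRing k A

/-- The fibres of `Spec R → Spec A` are orbits. -/
theorem exists_prime_pair (q q' : Ideal R) [q.IsPrime] [q'.IsPrime]
    (h : q.comap (algebraMap A R) = q'.comap (algebraMap A R)) :
    ∃ Q : Ideal (R ⊗[k] H), Q.IsPrime ∧ Q.comap (algebraMap R (R ⊗[k] H)) = q ∧
      Q.comap (GLin.coactAlgHom k H R).toRingHom = q' := by
  classical
  have := isIntegral A hA
  have : Module.Finite R (R ⊗[k] H) := Module.Finite.of_basis (bas H R)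
  have hfin : (q.primesOver (R ⊗[k] H)).Finite := Algebra.QuasiFinite.finite_primesOver q
  have hsub : (q' : Set R) ⊆
      ⋃ Q ∈ q.primesOver (R ⊗[k] H), (Q.comap (GLin.coactAlgHom k H R).toRingHom : Ideal R) := by
    intro f hf
    set P := cp (GLin.coactAlgHom k H R f) with hP
    have h0 : P.coeff 0 ∈ q' := by
      have h1 := aeval_self_cp (k := k) (H := H) f
      rw [← hP] at h1
      have h2 := congrArg (aeval f) (X_mul_divX_add P)
      rw [h1, map_add, map_mul, aeval_X, aeval_C] at h2
      have : P.coeff 0 = -(f * aeval f P.divX) := eq_neg_of_add_eq_zero_right h2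
      rw [this]
      exact q'.neg_mem (q'.mul_mem_right _ hf)
    have h1 : (⟨_, (hA _).2 (coact_coeff_cp f 0)⟩ : A) ∈ q.comap (algebraMap A R) := h ▸ h0
    have h2 : Algebra.norm R (GLin.coactAlgHom k H R f) ∈ q := by
      rw [Algebra.norm_eq_matrix_det (bas H R), Matrix.det_eq_sign_charpoly_coeff]
      exact q.mul_mem_left _ h1
    rw [← GrpdLib.Pres.norm_ofBasis (bas H R), ← GrpdLib.Pres.exists_prime_iff_norm_mem] at h2
    obtain ⟨Q, hQ, hQq, hQf⟩ := h2
    exact Set.mem_iUnion₂.2 ⟨Q, ⟨hQ, ⟨hQq.symm⟩⟩, hQf⟩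
  obtain ⟨Q, ⟨hQp, hQo⟩, hle⟩ := (Ideal.subset_union_prime_finite hfin ⊥ ⊥
    fun Q hQ _ _ => hQ.1.comap _).1 hsub
  refine ⟨Q, hQp, hQo.over.symm, ?_⟩
  by_contra hne
  have hlt : q' < Q.comap (GLin.coactAlgHom k H R).toRingHom := lt_of_le_of_ne hle (Ne.symm hne)
  have := Ideal.IsIntegral.comap_lt_comap (R := A) hlt
  refine this.ne (h.symm.trans ?_)
  ext a
  rw [Ideal.mem_comap, Ideal.mem_comap, Ideal.mem_comap, hQo.over]
  change algebraMap A R a ⊗ₜ[k] (1 : H) ∈ Q ↔ _
  rw [show algebraMap A R a ⊗ₜ[k] (1 : H) = GLin.coactAlgHom k H R (algebraMap A R a) from ((hA _).1 a.2).symm]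
  rfl

end Groth.Agent.InvQLib.FinHopf
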