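import Mathlib
import Groth.Agent.InvQLib.Basic
import Groth.Agent.InvQLib.FiniteHopf
import Groth.Agent.InvQLib.DepthChange

/-!
# Heights and depth for invariants of finite linearly reductive group schemes
-/

set_option autoImplicit false

universe u

noncomputable section

open TensorProduct

namespace Groth.Agent.InvQLib.FinHopf

variable {k : Type u} [Field k] {H : Type u} [CommRing H] [HopfAlgebra k H]
  {R : Type u} [CommRing R] [Algebra k R] [HopfRep.Comod k H R] [GLin.IsCoactAlg k H R]

variable (k H R) in
/-- `r ⊗ h ↦ coact r * (1 ⊗ h)`. -/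
def coShear : R ⊗[k] H →ₐ[k] R ⊗[k] H :=
  Algebra.TensorProduct.productMap (GLin.coactAlgHom k H R) Algebra.TensorProduct.includeRight

theorem bijective_coShear : Function.Bijective (coShear k H R) := by
  let c : R →ₐ[k] R ⊗[k] H := GLin.coactAlgHom k H R
  have hc : c.toLinearMap = HopfRep.Comod.coact (k := k) (A := H) := rfl
  let anti : H →ₐ[k] H := HopfAlgebra.antipodeAlgHom k H
  let incR : H →ₐ[k] R ⊗[k] H := Algebra.TensorProduct.includeRight
  let c' : R →ₐ[k] R ⊗[k] H := (Algebra.TensorProduct.map (AlgHom.id k R) anti).comp c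
  let Φ : R ⊗[k] H →ₐ[k] R ⊗[k] H := Algebra.TensorProduct.productMap c incR
  let Ψ : R ⊗[k] H →ₐ[k] R ⊗[k] H := Algebra.TensorProduct.productMap c' incR
  have coas : ∀ x : R, (TensorProduct.assoc k R H H) ((HopfRep.Comod.coact (k := k) (A := H)).rTensor H (c x))
      = (CoalgebraStruct.comul (R := k) (A := H)).lTensor R (c x) := fun x => by
    have := LinearMap.congr_fun (HopfRep.Comod.coassoc (k := k) (A := H) (V := R)) x
    simpa [← hc] using this
  have cou : ∀ x : R, (CoalgebraStruct.counit (R := k) (A := H)).lTensor R (c x) = x ⊗ₜ[k] (1 : k) := fun x => by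
    have := LinearMap.congr_fun (HopfRep.Comod.counit_comp (k := k) (A := H) (V := R)) x
    simpa [← hc] using this
  have h1 : ∀ x : R, Ψ (c x) = x ⊗ₜ[k] (1 : H) := by
    intro x
    have e : Ψ.toLinearMap = (LinearMap.mul' k H ∘ₗ (HopfAlgebra.antipode k).rTensor H).lTensor R ∘ₗ
        (TensorProduct.assoc k R H H).toLinearMap ∘ₗ c.toLinearMap.rTensor H := by
      apply TensorProduct.ext'
      intro a b
      simp [Ψ, c', incR]
      generalize c a = z
      induction z using TensorProduct.induction_on with
      | zero => simp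
      | tmul u v => simp [anti]
      | add u v hu hv => simp [add_tmul, add_mul, hu, hv]
    have := LinearMap.congr_fun e (c x)
    simp only [LinearMap.comp_apply, AlgHom.toLinearMap_apply, LinearEquiv.coe_coe, hc, coas,
      ← LinearMap.lTensor_comp_apply, LinearMap.comp_assoc, HopfAlgebra.mul_antipode_rTensor_comul] at this
    rw [this, LinearMap.lTensor_comp_apply, cou]
    simp
  have h2 : ∀ x : R, Φ (c' x) = x ⊗ₜ[k] (1 : H) := by
    intro x
    have e : ∀ z : R ⊗[k] H, Φ ((Algebra.TensorProduct.map (AlgHom.id k R) anti) z)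
        = (LinearMap.mul' k H ∘ₗ (HopfAlgebra.antipode k).lTensor H).lTensor R
          ((TensorProduct.assoc k R H H) (c.toLinearMap.rTensor H z)) := by
      intro z
      induction z using TensorProduct.induction_on with
      | zero => simp
      | tmul a b =>
        simp [Φ, incR]
        generalize c a = w
        induction w using TensorProduct.induction_on with
        | zero => simp
        | tmul u v => simp [anti]
        | add u v hu hv => simp [add_tmul, add_mul, hu, hv]
      | add u v hu hv => simp [hu, hv]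
    change Φ (Algebra.TensorProduct.map (AlgHom.id k R) anti (c x)) = _
    rw [e, hc, coas, ← LinearMap.lTensor_comp_apply, LinearMap.comp_assoc,
      HopfAlgebra.mul_antipode_lTensor_comul, LinearMap.lTensor_comp_apply, cou]
    simp
  have hΨΦ : Ψ.comp Φ = AlgHom.id k _ := by
    apply Algebra.TensorProduct.ext
    · apply AlgHom.ext; intro a; simp [Φ, h1]
    · apply AlgHom.ext; intro a; simp [Φ, Ψ, incR]
  have hΦΨ : Φ.comp Ψ = AlgHom.id k _ := by
    apply Algebra.TensorProduct.ext
    · apply AlgHom.ext; intro a; simp [Ψ, h2]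
    · apply AlgHom.ext; intro a; simp [Φ, Ψ, incR]
  exact ⟨fun a b hab => (DFunLike.congr_fun hΨΦ a).symm.trans ((congrArg Ψ hab).trans (DFunLike.congr_fun hΨΦ b)),
    fun a => ⟨Ψ a, DFunLike.congr_fun hΦΨ a⟩⟩

theorem height_le_height_comap {S T : Type u} [CommRing S] [CommRing T] [Algebra S T] [Algebra.IsIntegral S T]
    (Q : Ideal T) [hQ : Q.IsPrime] : Q.height ≤ (Q.comap (algebraMap S T)).height := by
  have h1 := (⟨Q, hQ⟩ : PrimeSpectrum T).height_eq_orderHeight
  have h2 := (PrimeSpectrum.comap (algebraMap S T) ⟨Q, hQ⟩).height_eq_orderHeight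
  simp only [PrimeSpectrum.comap_asIdeal] at h2
  rw [h1, h2]
  refine Order.height_le_height_apply_of_strictMono _ (fun a b hab => ?_) _
  exact Ideal.IsIntegral.comap_lt_comap (R := S) (I := a.asIdeal) (J := b.asIdeal) hab

variable [Module.Finite k H] [Algebra.FiniteType k R]

theorem height_comap_left (Q : Ideal (R ⊗[k] H)) [Q.IsPrime] :
    Q.height = (Q.comap (algebraMap R (R ⊗[k] H))).height := by
  have : Module.Finite R (R ⊗[k] H) := Module.Finite.of_basis (bas H R)
  have : Module.Free R (R ⊗[k] H) := Module.Free.of_basis (bas H R)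
  have : IsNoetherianRing R := Algebra.FiniteType.isNoetherianRing k R
  have : IsNoetherianRing (R ⊗[k] H) := IsNoetherianRing.of_finite R _
  refine le_antisymm (height_le_height_comap Q) ?_
  have : Q.LiesOver (Q.comap (algebraMap R (R ⊗[k] H))) := ⟨rfl⟩
  rw [Ideal.height_eq_height_add_of_liesOver_of_hasGoingDown (Q.comap (algebraMap R (R ⊗[k] H))) Q]
  exact le_self_add

theorem height_comap_coact (Q : Ideal (R ⊗[k] H)) [Q.IsPrime] :
    Q.height = (Q.comap (GLin.coactAlgHom k H R).toRingHom).height := by
  let e : R ⊗[k] H ≃ₐ[k] R ⊗[k] H := AlgEquiv.ofBijective _ (bijective_coShear (k := k) (H := H) (R := R))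
  have hp : (Q.comap e.toRingEquiv).IsPrime := Ideal.IsPrime.comap (hK := ‹Q.IsPrime›) _
  rw [← RingEquiv.height_comap e.toRingEquiv Q, height_comap_left (Q.comap e.toRingEquiv)]
  congr 1
  ext r
  simp only [Ideal.mem_comap]
  change coShear k H R (r ⊗ₜ[k] (1 : H)) ∈ Q ↔ _
  simp [coShear, ← Algebra.TensorProduct.one_def]

variable (A : Subalgebra k R) (hA : ∀ a : R, a ∈ A ↔ HopfRep.Comod.coact (k := k) (A := H) a = a ⊗ₜ[k] (1 : H))

include hA

theorem height_eq_height_comap (q : Ideal R) [q.IsPrime] :
    q.height = (q.comap (algebraMap A R)).height := by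
  have := isIntegral A hA
  have := isNoetherianRing A hA
  refine le_antisymm (height_le_height_comap q) ?_
  obtain ⟨l, hl, hlen⟩ := (q.comap (algebraMap A R)).exists_ltSeries_length_eq_height
  obtain ⟨q0, -, hq0, hq0c⟩ := Ideal.exists_ideal_over_prime_of_isIntegral (S := R) l.head.asIdeal ⊥ (by
    intro a ha
    have : algebraMap A R a = 0 := ha
    obtain rfl : a = 0 := Subtype.ext this
    exact Ideal.zero_mem _)
  have : q0.LiesOver l.head.asIdeal := ⟨hq0c.symm⟩
  obtain ⟨L, hLlen, -, hLmap⟩ := Ideal.exists_ltSeries_of_hasGoingUp l q0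
  have hlast : PrimeSpectrum.comap (algebraMap A R) L.last = l.last := by
    rw [← RelSeries.getLast_toList l, ← RelSeries.getLast_toList L]
    simp only [← hLmap, List.getLast_map]
  have hp : L.last.asIdeal.comap (algebraMap A R) = q.comap (algebraMap A R) := by
    rw [← PrimeSpectrum.comap_asIdeal, hlast, hl]
  obtain ⟨Q, hQ, hQ1, hQ2⟩ := exists_prime_pair A hA q L.last.asIdeal hp.symm
  rw [← hlen, ← hLlen, ← hQ1, ← height_comap_left Q, height_comap_coact Q, hQ2,
    PrimeSpectrum.height_eq_orderHeight]
  exact Order.length_le_height le_rfl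

omit [Algebra.FiniteType k R] in
theorem exists_splitting (hG : HopfRep.IsLinearlyReductive k H) :
    ∃ π : R →ₗ[A] A, π ∘ₗ Algebra.linearMap A R = LinearMap.id := by
  obtain ⟨E, hfix, hid, -, hmul⟩ := exists_reynolds (k := k) (A := H) (R := R) hG
  refine ⟨{ toFun := fun r => ⟨E r, (hA _).2 (hfix r)⟩
            map_add' := fun a b => Subtype.ext (map_add E a b)
            map_smul' := fun a r => Subtype.ext ?_ }, LinearMap.ext fun a => Subtype.ext (hid _ ((hA _).1 a.2))⟩
  change E ((a : R) * r) = (a : R) * E r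
  rw [mul_comm, hmul r a ((hA _).1 a.2), mul_comm]

theorem le_idealDepth (r : ℕ) (hR : LocCoh.HasSk r R R) (p : Ideal A) [p.IsPrime] :
    min (r : ℕ∞) p.height ≤ LocCoh.idealDepth p R := by
  have := moduleFinite A hA
  have := isNoetherianRing A hA
  have : IsNoetherianRing R := Algebra.FiniteType.isNoetherianRing k R
  refine le_trans ?_ (idealDepth_map_le p)
  rw [Depth.idealDepth_eq_iInf_depth]
  refine le_iInf₂ fun q hq => ?_
  have hpq : p.height ≤ q.asIdeal.height := by
    rw [height_eq_height_comap A hA q.asIdeal]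
    exact Ideal.height_mono (Ideal.map_le_iff_le_comap.1 hq)
  have h := hR q.asIdeal
  rw [supportDim_localizedModule_of_injective (A := R) (R := R) (fun _ _ h => h) q.asIdeal,
    IsLocalization.AtPrime.ringKrullDim_eq_height q.asIdeal] at h
  exact (min_le_min_left _ hpq).trans (WithBot.coe_le_coe.1 (by exact_mod_cast h))

theorem hasSk (hG : HopfRep.IsLinearlyReductive k H) (r : ℕ) (hR : LocCoh.HasSk r R R) :
    LocCoh.HasSk r A R ∧ LocCoh.HasSk r A A := by
  have := moduleFinite A hA
  have := isNoetherianRing A hA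
  obtain ⟨π, hπ⟩ := exists_splitting A hA hG
  refine ⟨fun p _ => ?_, fun p _ => ?_⟩
  · rw [supportDim_localizedModule_of_injective (A := A) (R := R) Subtype.val_injective p,
      IsLocalization.AtPrime.ringKrullDim_eq_height p]
    exact_mod_cast (le_idealDepth A hA r hR p).trans (Depth.idealDepth_le_depth_localizedModule p le_rfl)
  · rw [supportDim_localizedModule_of_injective (A := A) (R := A) (fun _ _ h => h) p,
      IsLocalization.AtPrime.ringKrullDim_eq_height p]
    exact_mod_cast ((le_idealDepth A hA r hR p).trans (idealDepth_le_of_retract p (Algebra.linearMap A R) π hπ)).trans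
      (Depth.idealDepth_le_depth_localizedModule p le_rfl)

end Groth.Agent.InvQLib.FinHopf
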