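import Mathlib
import Groth.Agent.Comod.Basic
import Groth.Prelude.Def_GLin

/-!
# Weight components of comodule algebras over a group algebra
-/

set_option autoImplicit false

universe u v w

noncomputable section

open TensorProduct HopfRep WithConv

namespace Groth.Agent.InvQLib.Torus

variable {k : Type u} [Field k] {Λ : Type v} [AddCommGroup Λ]
  {R : Type w} [AddCommGroup R] [Module k R] [HopfRep.Comod k (AddMonoidAlgebra k Λ) R]

local notation "kΛ" => AddMonoidAlgebra k Λ

variable (k Λ) in
/-- The weight components. -/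
def comps : R →ₗ[k] (Λ →₀ R) :=
  haveI := Classical.decEq Λ
  (TensorProduct.equivFinsuppOfBasisRight (AddMonoidAlgebra.basis Λ k)).toLinearMap ∘ₗ
    HopfRep.Comod.coact (k := k) (A := kΛ)

theorem coact_eq (f : R) :
    HopfRep.Comod.coact (k := k) (A := kΛ) f = (comps k Λ f).sum fun w m => m ⊗ₜ AddMonoidAlgebra.single w 1 := by
  classical
  conv_lhs => rw [← (TensorProduct.equivFinsuppOfBasisRight (AddMonoidAlgebra.basis Λ k)).symm_apply_apply
    (HopfRep.Comod.coact (k := k) (A := kΛ) f)]
  rw [TensorProduct.equivFinsuppOfBasisRight_symm_apply]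
  simp [comps, AddMonoidAlgebra.basis_apply]

theorem contract_eq (φ : kΛ →ₗ[k] k) (f : R) :
    Comod.contract φ f = (comps k Λ f).sum fun w m => φ (AddMonoidAlgebra.single w 1) • m := by
  rw [Comod.contract_apply, coact_eq, Finsupp.sum, Finsupp.sum, map_sum]
  exact Finset.sum_congr rfl fun w _ => Comod.slice_tmul _ _ _

theorem contract_coord (u : Λ) (f : R) :
    Comod.contract ((AddMonoidAlgebra.basis Λ k).coord u) f = comps k Λ f u := by
  classical
  rw [contract_eq, Finsupp.sum]
  simp [← AddMonoidAlgebra.basis_apply, Finsupp.single_apply, ite_smul]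
  intro h; rw [h]

theorem comps_mem (f : R) (u : Λ) :
    comps k Λ f u ∈ HopfRep.eigenspace k kΛ R (AddMonoidAlgebra.single u 1) := by
  classical
  have : Module.Free k kΛ := Module.Free.of_basis (AddMonoidAlgebra.basis Λ k)
  refine (Comod.eq_tmul_iff_contract _ _).2 fun ψ => ?_
  rw [← contract_coord, Comod.contract_contract, contract_eq, contract_coord, Finsupp.sum]
  have hmul : ∀ x : Λ, (toConv ψ * toConv ((AddMonoidAlgebra.basis Λ k).coord u)).ofConv (AddMonoidAlgebra.single x 1) =
      ψ (AddMonoidAlgebra.single x 1) * if u = x then 1 else 0 := by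
    intro x
    rw [LinearMap.convMul_apply, AddMonoidAlgebra.comul_single]
    simp [← AddMonoidAlgebra.basis_apply, Finsupp.single_apply, eq_comm]
  simp [hmul, ite_smul]
  intro h; rw [h, smul_zero]

theorem sum_comps (f : R) : ((comps k Λ f).sum fun _ m => m) = f := by
  conv_rhs => rw [← Comod.contract_counit (k := k) (A := kΛ) f, contract_eq]
  simp [Finsupp.sum]

theorem comps_of_mem {u : Λ} {f : R} (hf : f ∈ HopfRep.eigenspace k kΛ R (AddMonoidAlgebra.single u 1)) :
    comps k Λ f = Finsupp.single u f := by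
  classical
  have h : HopfRep.Comod.coact (k := k) (A := kΛ) f = f ⊗ₜ AddMonoidAlgebra.single u 1 := hf
  refine (TensorProduct.equivFinsuppOfBasisRight (M := R) (AddMonoidAlgebra.basis Λ k)).symm.injective ?_
  rw [TensorProduct.equivFinsuppOfBasisRight_symm_apply, TensorProduct.equivFinsuppOfBasisRight_symm_apply]
  simp only [AddMonoidAlgebra.basis_apply]
  rw [← coact_eq, h, Finsupp.sum_single_index (by simp)]

end Groth.Agent.InvQLib.Torus

namespace Groth.Agent.InvQLib.Torus

variable {k : Type u} [Field k] {Λ : Type v} [AddCommGroup Λ]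
  {R : Type w} [CommRing R] [Algebra k R] [HopfRep.Comod k (AddMonoidAlgebra k Λ) R]
  [GLin.IsCoactAlg k (AddMonoidAlgebra k Λ) R]

local notation "kΛ" => AddMonoidAlgebra k Λ

theorem mul_mem {u v : Λ} {f g : R} (hf : f ∈ HopfRep.eigenspace k kΛ R (AddMonoidAlgebra.single u 1))
    (hg : g ∈ HopfRep.eigenspace k kΛ R (AddMonoidAlgebra.single v 1)) :
    f * g ∈ HopfRep.eigenspace k kΛ R (AddMonoidAlgebra.single (u + v) 1) := by
  change _ = _
  rw [GLin.IsCoactAlg.coact_mul, show HopfRep.Comod.coact (k := k) (A := kΛ) f = _ from hf,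
    show HopfRep.Comod.coact (k := k) (A := kΛ) g = _ from hg, Algebra.TensorProduct.tmul_mul_tmul,
    AddMonoidAlgebra.single_mul_single, one_mul]

theorem one_mem : (1 : R) ∈ HopfRep.eigenspace k kΛ R (AddMonoidAlgebra.single 0 1) := by
  change _ = _
  rw [GLin.IsCoactAlg.coact_one (k := k), Algebra.TensorProduct.one_def, AddMonoidAlgebra.one_def]

theorem comps_zero_mul (hpos : ∀ w : Λ, HopfRep.eigenspace k kΛ R (AddMonoidAlgebra.single w 1) ≠ ⊥ →
      HopfRep.eigenspace k kΛ R (AddMonoidAlgebra.single (-w) 1) ≠ ⊥ → w = 0) (f g : R) :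
    comps k Λ (f * g) 0 = comps k Λ f 0 * comps k Λ g 0 := by
  classical
  conv_lhs => rw [← sum_comps (k := k) (Λ := Λ) f, ← sum_comps (k := k) (Λ := Λ) g, Finsupp.sum, Finsupp.sum,
    Finset.sum_mul_sum]
  simp only [map_sum, Finsupp.coe_finsetSum, Finset.sum_apply,
    comps_of_mem (mul_mem (comps_mem f _) (comps_mem g _)), Finsupp.single_apply]
  rw [Finset.sum_eq_single 0, Finset.sum_eq_single 0]
  · simp
  · intro v _ hv; simp [hv]
  · intro hv; simp [Finsupp.notMem_support_iff.1 hv]
  · intro a _ ha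
    refine Finset.sum_eq_zero fun v _ => ?_
    rcases eq_or_ne (a + v) 0 with h | h
    · rw [if_pos h]
      by_contra hne
      have hv : v = -a := eq_neg_of_add_eq_zero_right h
      subst hv
      exact ha (hpos a (Submodule.ne_bot_iff _ |>.2 ⟨_, comps_mem f a, left_ne_zero_of_mul hne⟩)
        (Submodule.ne_bot_iff _ |>.2 ⟨_, comps_mem g (-a), right_ne_zero_of_mul hne⟩))
    · rw [if_neg h]
  · intro h0; simp [Finsupp.notMem_support_iff.1 h0]

end Groth.Agent.InvQLib.Torus
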